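import Cfsg.Agent.Comp.OutSub

/-!
Double coset enumeration. `H₀` acts on the points below `n`, is mapped to `G` by `ι`, and `t : G`
commutes with the image of the stabiliser of the point `0`.
-/

set_option autoImplicit false

namespace Cfsg.Agent.DCE
open Cfsg.Agent.Comp

variable {G H₀ : Type*} [Group G] [Group H₀]

/-- `H a p m q = H b` -/
def EF (ι : H₀ →* G) (m a : G) (p q : H₀) (b : G) : Prop := a * ι p * m * ι q * b⁻¹ ∈ ι.range

/-- `H a s = H a` -/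
def SF (ι : H₀ →* G) (a : G) (s : H₀) : Prop := a * ι s * a⁻¹ ∈ ι.range

/-- `t` commutes with the stabiliser of `0` -/
def Cm0 (ι : H₀ →* G) (φ : H₀ →* Equiv.Perm ℕ) (t : G) : Prop :=
  ∀ u, φ u 0 = 0 → ι u * t = t * ι u

variable {ι : H₀ →* G} {φ : H₀ →* Equiv.Perm ℕ} {t : G}

theorem fix_of_eq {p q : H₀} (h : φ p 0 = φ q 0) : φ (p⁻¹ * q) 0 = 0 := by
  rw [map_mul, map_inv, Equiv.Perm.mul_apply, ← h]; simp

theorem Cm0.move (hc : Cm0 ι φ t) {p q : H₀} (h : φ p 0 = φ q 0) :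
    ι q * t = ι p * t * ι (p⁻¹ * q) := by
  rw [mul_assoc, ← hc _ (fix_of_eq h), ← mul_assoc, ← map_mul, mul_inv_cancel_left]

theorem EF.defn (m a : G) (p : H₀) : EF ι m a p 1 (a * ι p * m) := by
  unfold EF; rw [map_one, mul_one, mul_inv_cancel]; exact one_mem _

theorem EF.back {a b : G} {p q c d : H₀} (h : EF ι t a p q b) (hi : t⁻¹ = ι c * t * ι d) :
    EF ι t b (q⁻¹ * c) (d * p⁻¹) a := by
  have := inv_mem h
  unfold EF
  convert this using 1
  have e : ι c * t * ι d = t⁻¹ := hi.symm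
  simp only [map_mul, map_inv, mul_inv_rev, inv_inv, ← e]; group

theorem SF.one (a : G) : SF ι a 1 := by unfold SF; simp

theorem SF.mul {a : G} {s s' : H₀} (h : SF ι a s) (h' : SF ι a s') : SF ι a (s * s') := by
  have := mul_mem h h'
  unfold SF; convert this using 1; rw [map_mul]; group

theorem SF.inv {a : G} {s : H₀} (h : SF ι a s) : SF ι a s⁻¹ := by
  have := inv_mem h
  unfold SF; convert this using 1; rw [map_inv]; group

theorem SF.base (s : H₀) : SF ι 1 s := by unfold SF; simp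

theorem EF.left {m a b : G} {p q s : H₀} (h : EF ι m a p q b) (hs : SF ι a s) :
    EF ι m a (s * p) q b := by
  have := mul_mem hs h
  unfold EF; convert this using 1; rw [map_mul]; group

theorem EF.two (hc : Cm0 ι φ t) {a b e : G} {p₁ q₁ s p₂ q₂ u c : H₀} (h₁ : EF ι t a p₁ q₁ b)
    (hs : SF ι b s) (h₂ : EF ι t b p₂ q₂ e) (hu : φ u 0 = 0)
    (hm : φ (u * c) 0 = φ (q₁ * s * p₂) 0) :
    EF ι (t * ι c * t) a (p₁ * u) ((u * c)⁻¹ * (q₁ * s * p₂) * q₂) e := by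
  have h := mul_mem h₁ (h₂.left hs)
  have e1 := hc.move hm
  have e2 := hc u hu
  unfold EF
  convert h using 1
  calc a * ι (p₁ * u) * (t * ι c * t) * ι ((u * c)⁻¹ * (q₁ * s * p₂) * q₂) * e⁻¹
      = a * ι p₁ * (ι u * t) * ι c * t * ι ((u * c)⁻¹ * (q₁ * s * p₂)) * ι q₂ * e⁻¹ := by
        rw [map_mul ι _ q₂, map_mul ι p₁]; group
    _ = a * ι p₁ * t * (ι (u * c) * t * ι ((u * c)⁻¹ * (q₁ * s * p₂))) * ι q₂ * e⁻¹ := by
        rw [e2, map_mul ι u c]; group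
    _ = _ := by rw [← e1]; simp only [map_mul]; group

theorem EF.tri (hc : Cm0 ι φ t) {a e : G} {p q c d f p' q' : H₀}
    (h : EF ι (t * ι c * t) a p q e) (hr : t * ι c * t = ι d * t * ι f)
    (h1 : φ p' 0 = φ (p * d) 0) (h2 : p' * q' = p * d * f * q) : EF ι t a p' q' e := by
  have e1 := hc.move h1
  have e2 : q' = p'⁻¹ * (p * d) * f * q := by rw [mul_assoc, mul_assoc, ← mul_assoc _ f, ← h2]; group
  unfold EF at h ⊢
  convert h using 1
  calc a * ι p' * t * ι q' * e⁻¹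
      = a * (ι p' * t * ι (p'⁻¹ * (p * d))) * ι f * ι q * e⁻¹ := by
        rw [e2, map_mul ι _ q, map_mul ι _ f]; group
    _ = _ := by rw [← e1, hr, map_mul]; group

theorem EF.cmp (hc : Cm0 ι φ t) {a b : G} {p q s p' q' l : H₀} (h : EF ι t a p q b)
    (hs : SF ι a s) (h' : EF ι t a p' q' b) (h1 : φ p 0 = φ (s * p') 0)
    (h2 : p * q * l = s * p' * q') : SF ι b l := by
  have k := mul_mem (inv_mem h) (h'.left hs)
  have e1 := hc.move h1
  have e2 : l = q⁻¹ * (p⁻¹ * (s * p')) * q' := by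
    rw [mul_assoc, mul_assoc, ← h2]; group
  unfold SF
  convert k using 1
  rw [mul_assoc a (ι (s * p')), e1, e2, map_mul ι _ q', map_mul ι q⁻¹, map_inv ι q]; group

/-- the `x`-th neighbour of `H a` lies in `H b H` -/
def Nb (ι : H₀ →* G) (φ : H₀ →* Equiv.Perm ℕ) (t a : G) (x : ℕ) (b : G) : Prop :=
  ∃ p q, φ p 0 = x ∧ EF ι t a p q b

theorem EF.mem {m a b : G} {p q : H₀} (h : EF ι m a p q b) {K : Subgroup G} (hK : ι.range ≤ K) :
    (a ∈ K → b ∈ K → m ∈ K) ∧ (a ∈ K → m ∈ K → b ∈ K) := by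
  have h0 := hK h
  have hp : ι p ∈ K := hK ⟨p, rfl⟩
  have hq : ι q ∈ K := hK ⟨q, rfl⟩
  constructor
  · intro ha hb
    have := mul_mem (mul_mem (mul_mem (inv_mem (mul_mem ha hp)) h0) hb) (inv_mem hq)
    convert this using 1; group
  · intro ha hm
    have := mul_mem (inv_mem h0) (mul_mem (mul_mem (mul_mem ha hp) hm) hq)
    convert this using 1; group

/-- the neighbours of `H a`: `r` lists the double cosets with the numbers of neighbours -/
def Row (ι : H₀ →* G) (φ : H₀ →* Equiv.Perm ℕ) (t : G) (n m : ℕ) (w : ℕ → G) (a : G)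
    (r : List (ℕ × ℕ)) : Prop :=
  ∃ ty : ℕ → ℕ, (∀ x < n, ty x < m ∧ Nb ι φ t a x (w (ty x))) ∧
    ∀ v : ℕ → ℤ, ∑ x ∈ Finset.range n, v (ty x) = (r.map fun e => (e.2 : ℤ) * v e.1).sum

theorem sum_perm {n : ℕ} {σ : Equiv.Perm ℕ} (h : σ ∈ Bd n) (g : ℕ → ℤ) :
    ∑ x ∈ Finset.range n, g (σ x) = ∑ x ∈ Finset.range n, g x := by
  refine Finset.sum_bijective σ σ.bijective (fun i => ?_) fun _ _ => rfl
  simp only [Finset.mem_range]
  refine ⟨Bd.lt h, fun hi => ?_⟩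
  by_contra hn
  rw [h i (not_lt.mp hn)] at hi
  exact hn hi

/-- the coset `H g` -/
def cs (ι : H₀ →* G) (g : G) : G ⧸ ι.range := ((g⁻¹ : G) : G ⧸ ι.range)

theorem cs_eq {a b : G} : cs ι a = cs ι b ↔ a * b⁻¹ ∈ ι.range := by
  unfold cs; rw [QuotientGroup.eq, inv_inv]

theorem cs_mul (a g : G) : cs ι (a * g) = g⁻¹ • cs ι a := by
  unfold cs; rw [mul_inv_rev]; rfl

/-- a closed enumeration -/
structure Closed (ι : H₀ →* G) (φ : H₀ →* Equiv.Perm ℕ) (t : G) (n m : ℕ) (w : ℕ → G)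
    (rows : List (List (ℕ × ℕ))) : Prop where
  cm : Cm0 ι φ t
  bd : ∀ h, φ h ∈ Bd n
  pos : 0 < n ∧ 0 < m
  tr : ∀ x < n, ∃ h, φ h 0 = x
  w0 : w 0 = 1
  row : ∀ i < m, Row ι φ t n m w (w i) (rows.getD i [])
  gen : ∀ K : Subgroup G, ι.range ≤ K → t ∈ K → K = ⊤
  inv : ∃ c d, t⁻¹ = ι c * t * ι d

variable {n m : ℕ} {w : ℕ → G} {rows : List (List (ℕ × ℕ))}

theorem Nb.step (hc : Cm0 ι φ t) {a b : G} {p : H₀} (h : Nb ι φ t a (φ p 0) b) :
    ∃ k, cs ι (a * ι p * t) = cs ι (b * ι k) := by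
  obtain ⟨p', q', h1, h2⟩ := h
  refine ⟨q'⁻¹ * (p'⁻¹ * p), cs_eq.mpr ?_⟩
  unfold EF at h2
  convert h2 using 1
  rw [mul_assoc a, hc.move h1, map_mul ι q'⁻¹, map_inv ι q']; group

theorem Closed.cover (D : Closed ι φ t n m w rows) (g : G) :
    ∃ i < m, ∃ h, cs ι g = cs ι (w i * ι h) := by
  let X : Set (G ⧸ ι.range) := {y | ∃ i < m, ∃ h, y = cs ι (w i * ι h)}
  let M : Submonoid G :=
    { carrier := {g | ∀ y ∈ X, g⁻¹ • y ∈ X}
      one_mem' := fun y hy => by simpa using hy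
      mul_mem' := fun {a b} ha hb y hy => by
        rw [mul_inv_rev, mul_smul]; exact hb _ (ha _ hy) }
  have hι : ∀ k, ι k ∈ M := by
    rintro k _ ⟨i, hi, h, rfl⟩
    exact ⟨i, hi, h * k, by rw [← cs_mul, map_mul, mul_assoc]⟩
  have ht : t ∈ M := by
    rintro _ ⟨i, hi, h, rfl⟩
    obtain ⟨ty, h1, -⟩ := D.row i hi
    obtain ⟨h2, h3⟩ := h1 _ (Bd.lt (D.bd h) D.pos.1)
    obtain ⟨k, hk⟩ := h3.step D.cm
    exact ⟨_, h2, k, by rw [← cs_mul, hk]⟩
  let K : Subgroup G :=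
    { carrier := {g | g ∈ M ∧ g⁻¹ ∈ M}
      one_mem' := ⟨M.one_mem, by simp⟩
      mul_mem' := fun {a b} ha hb =>
        ⟨M.mul_mem ha.1 hb.1, by rw [mul_inv_rev]; exact M.mul_mem hb.2 ha.2⟩
      inv_mem' := fun {a} ha => ⟨ha.2, by simpa using ha.1⟩ }
  have hK : K = ⊤ := by
    refine D.gen K ?_ ⟨ht, ?_⟩
    · rintro _ ⟨k, rfl⟩
      exact ⟨hι k, by rw [← map_inv]; exact hι _⟩
    · obtain ⟨c, d, e⟩ := D.inv
      rw [e]; exact M.mul_mem (M.mul_mem (hι c) ht) (hι d)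
  have hg : g ∈ K := hK ▸ Subgroup.mem_top g
  have := hg.1 (cs ι (w 0 * ι 1)) ⟨0, D.pos.2, 1, rfl⟩
  rw [← cs_mul, D.w0, map_one, one_mul, one_mul] at this
  exact this

theorem Closed.finite [Finite H₀] (D : Closed ι φ t n m w rows) : Finite (G ⧸ ι.range) := by
  refine Finite.of_surjective (fun e : Fin m × H₀ => cs ι (w e.1 * ι e.2)) fun y => ?_
  induction y using QuotientGroup.induction_on with
  | H g =>
    obtain ⟨i, hi, h, e⟩ := D.cover g⁻¹
    exact ⟨(⟨i, hi⟩, h), e.symm.trans (by rw [cs, inv_inv])⟩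

/-- the subgroups above `H` -/
theorem Closed.coatom (D : Closed ι φ t n m w rows) (ht : t ∉ ι.range)
    (h : ∀ K : Subgroup G, ι.range ≤ K → ∀ i < m, i ≠ 0 → w i ∈ K → t ∈ K) :
    IsCoatom ι.range := by
  refine ⟨fun e => ht (e ▸ Subgroup.mem_top t), fun K hK => ?_⟩
  obtain ⟨g, hg, hn⟩ := SetLike.exists_of_lt hK
  obtain ⟨i, hi, k, e⟩ := D.cover g
  rw [cs_eq] at e
  have hk : ι k ∈ ι.range := ⟨k, rfl⟩
  refine D.gen K hK.le (h K hK.le i hi ?_ ?_)
  · rintro rfl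
    rw [D.w0, one_mul] at e
    exact hn (by simpa using mul_mem e hk)
  · have := mul_mem (mul_mem (inv_mem (hK.le e)) hg) (inv_mem (hK.le hk))
    convert this using 1; group

/-- a function on the cosets with values `v` on the double cosets and sum `σ` -/
def Fn (ι : H₀ →* G) [Fintype (G ⧸ ι.range)] (m : ℕ) (w : ℕ → G) (v : List ℤ) (σ : ℤ) : Prop :=
  ∃ f : G ⧸ ι.range → ℤ, (∀ i < m, ∀ h, f (cs ι (w i * ι h)) = v.getD i 0) ∧ ∑ y, f y = σ

theorem Fn.zero [Fintype (G ⧸ ι.range)] : Fn ι m w [] 0 :=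
  ⟨fun _ => 0, fun _ _ _ => rfl, by simp⟩

/-- the check of one step -/
def stepB (n m : ℕ) (rows : List (List (ℕ × ℕ))) (v : List ℤ) (σ q : ℤ) (v' : List ℤ) (σ' : ℤ) :
    Bool :=
  (List.range m).all (fun i => v'.getD i 0 ==
    ((rows.getD i []).map fun e => (e.2 : ℤ) * v.getD e.1 0).sum + if i = 0 then q else 0) &&
  σ' == n * σ + q

theorem Closed.step [Fintype (G ⧸ ι.range)] (D : Closed ι φ t n m w rows)
    (hne : ∀ i < m, i ≠ 0 → w i ∉ ι.range) {v v' : List ℤ} {σ σ' : ℤ} (q : ℤ) (h : Fn ι m w v σ)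
    (hB : stepB n m rows v σ q v' σ' = true) : Fn ι m w v' σ' := by
  classical
  obtain ⟨f, hf, rfl⟩ := h
  simp only [stepB, Bool.and_eq_true, List.all_eq_true, List.mem_range, beq_iff_eq] at hB
  choose! r hr using D.tr
  refine ⟨fun y => ∑ x ∈ Finset.range n, f ((ι (r x) * t * (ι (r x))⁻¹)⁻¹ • y) +
    if y = cs ι 1 then q else 0, fun i hi h => ?_, ?_⟩
  · obtain ⟨ty, h1, h2⟩ := D.row i hi
    rw [hB.1 i hi, ← h2 fun j => v.getD j 0, ← sum_perm (D.bd h) fun x => v.getD (ty x) 0]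
    beta_reduce
    congr 1
    · refine Finset.sum_congr rfl fun x hx => ?_
      have hx' := Finset.mem_range.mp hx
      have e : φ (h * r x) 0 = φ h x := by rw [map_mul, Equiv.Perm.mul_apply, hr x hx']
      obtain ⟨h3, h4⟩ := h1 _ (Bd.lt (D.bd h) hx')
      obtain ⟨k, hk⟩ := Nb.step (p := h * r x) (b := w (ty (φ h x))) D.cm (by rw [e]; exact h4)
      rw [← hf _ h3 (k * (r x)⁻¹), map_mul, ← mul_assoc, cs_mul _ (ι (r x)⁻¹), ← hk, ← cs_mul,
        ← cs_mul, map_mul, map_inv]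
      congr 2; group
    · by_cases h0 : i = 0
      · subst h0
        rw [if_pos rfl, if_pos]
        rw [cs_eq, D.w0]; simp
      · rw [if_neg h0, if_neg]
        rw [cs_eq]
        intro e
        refine hne i hi h0 ?_
        have := mul_mem e (inv_mem (⟨h, rfl⟩ : ι h ∈ ι.range))
        simpa using this
  · rw [Finset.sum_add_distrib, Finset.sum_comm, hB.2]
    congr 1
    · refine (Finset.sum_congr rfl fun x _ =>
        Equiv.sum_comp (MulAction.toPerm (ι (r x) * t * (ι (r x))⁻¹)⁻¹) f).trans ?_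
      simp
    · simp

theorem Closed.index [Fintype (G ⧸ ι.range)] (D : Closed ι φ t n m w rows) {v : List ℤ}
    {σ M : ℤ} {N : ℕ} (h : Fn ι m w v σ)
    (hB : ((List.range m).all (fun i => v.getD i 0 == M) && σ == M * N && M != 0) = true) :
    ι.range.index = N := by
  obtain ⟨f, hf, e⟩ := h
  simp only [Bool.and_eq_true, List.all_eq_true, List.mem_range, beq_iff_eq, bne_iff_ne] at hB
  have h1 : ∀ y, f y = M := fun y => by
    induction y using QuotientGroup.induction_on with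
    | H g =>
      obtain ⟨i, hi, h, e⟩ := D.cover g⁻¹
      rw [← hB.1.1 i hi, ← hf i hi h, ← e, cs, inv_inv]
  rw [Finset.sum_congr rfl fun y _ => h1 y, hB.1.2, Finset.sum_const, Finset.card_univ,
    nsmul_eq_mul, mul_comm] at e
  rw [Subgroup.index, Nat.card_eq_fintype_card]
  exact_mod_cast mul_left_cancel₀ hB.2 e

end Cfsg.Agent.DCE
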