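import Cfsg.Agent.DCE.Basic

/-!
Double coset enumeration: the steps with words.
-/

set_option autoImplicit false

namespace Cfsg.Agent.DCE
open Cfsg.Agent.Comp

variable {G H₀ : Type*} [Group G] [Group H₀]

/-- the setting of the checks -/
structure Ctx (ι : H₀ →* G) (φ : H₀ →* Equiv.Perm ℕ) (t : G) (s : ℕ → H₀) (L n iv : ℕ)
    (T : List Net) (bs : List ℕ) : Prop where
  rep : Rep s L n T φ
  inj : Function.Injective φ
  base : IsBase φ.range bs
  cm : Cm0 ι φ t
  inv : ∀ y < L, invL iv y < L ∧ s (invL iv y) = (s y)⁻¹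
  pos : 0 < n
  hbs : ltB n bs = true

/-- `H a p t q = H b` -/
def EW (ι : H₀ →* G) (t : G) (s : ℕ → H₀) (a : G) (p q : List ℕ) (b : G) : Prop :=
  EF ι t a (ev s p) (ev s q) b

/-- `H a w = H a` -/
def SW (ι : H₀ →* G) (s : ℕ → H₀) (a : G) (w : List ℕ) : Prop := SF ι a (ev s w)

/-- `t c t = d t f` -/
def RW (ι : H₀ →* G) (t : G) (s : ℕ → H₀) (c d f : List ℕ) : Prop :=
  t * ι (ev s c) * t = ι (ev s d) * t * ι (ev s f)

/-- both words send `0` to `a` -/
noncomputable def sameB (L : Nat) (T : List Net) (u v : List Nat) (a : Nat) : Bool :=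
  band (ltB L u) (band (ltB L v) (band (mem1 T u (pt a) (nat_lit 0)) (mem1 T v (pt a) (nat_lit 0))))

/-- the words agree on the base -/
noncomputable def eqW (L n : Nat) (bs : List Nat) (T : List Net) (u v : List Nat) : Bool :=
  band (ltB L u && ltB L v) (eqsZ n bs T [(u, v)])

variable {ι : H₀ →* G} {φ : H₀ →* Equiv.Perm ℕ} {t : G} {s : ℕ → H₀} {L n iv : ℕ}
  {T : List Net} {bs : List ℕ}

theorem SW.nil (a : G) : SW ι s a [] := SF.one a

theorem SW.app {a : G} {u v : List ℕ} (h : SW ι s a u) (h' : SW ι s a v) : SW ι s a (u ++ v) := by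
  unfold SW; rw [ev_append]; exact h.mul h'

theorem SW.base (u : List ℕ) : SW ι s 1 u := SF.base _

theorem EW.defn (a : G) (p : List ℕ) : EW ι t s a p [] (a * ι (ev s p) * t) := EF.defn t a _

namespace Ctx

theorem pt0 (D : Ctx ι φ t s L n iv T bs) {u : List ℕ} {a : ℕ} (h : ltB L u = true)
    (h' : mem1 T u (pt a) (nat_lit 0) = true) : φ (ev s u) 0 = a := by
  rw [D.rep.ev_eq (ltB_spec h)]; exact mem1_pt D.rep.ok D.pos h'

theorem same (D : Ctx ι φ t s L n iv T bs) {u v : List ℕ} {a : ℕ} (h : sameB L T u v a = true) :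
    φ (ev s u) 0 = φ (ev s v) 0 ∧ ∀ x ∈ u, x < L := by
  simp only [sameB, band_eq] at h
  exact ⟨by rw [D.pt0 h.1 h.2.2.1, D.pt0 h.2.1 h.2.2.2], ltB_spec h.1⟩

theorem eq (D : Ctx ι φ t s L n iv T bs) {u v : List ℕ} (h : eqW L n bs T u v = true) :
    ev s u = ev s v := by
  simp only [eqW, band_eq] at h
  exact D.rep.eqB D.inj D.base (E := [(u, v)])
    (by simp only [band_eq]; exact ⟨D.hbs, by simpa using h.1, h.2⟩) (u, v) (by simp)

theorem back (D : Ctx ι φ t s L n iv T bs) {c d : List ℕ}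
    (hi : t⁻¹ = ι (ev s c) * t * ι (ev s d)) {a b : G} {p q p' q' : List ℕ}
    (h : EW ι t s a p q b)
    (hB : (ltB L p && ltB L q && p' == invW iv q ++ c && q' == d ++ invW iv p) = true) :
    EW ι t s b p' q' a := by
  simp only [Bool.and_eq_true, beq_iff_eq] at hB
  obtain ⟨⟨⟨h1, h2⟩, rfl⟩, rfl⟩ := hB
  unfold EW
  rw [ev_append, ev_append, ev_invW D.inv (ltB_spec h1), ev_invW D.inv (ltB_spec h2)]
  exact EF.back h hi

theorem two (D : Ctx ι φ t s L n iv T bs) {a b e : G} {p₁ q₁ z p₂ q₂ c : List ℕ} (u : List ℕ)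
    (x : ℕ) (h₁ : EW ι t s a p₁ q₁ b) (hs : SW ι s b z) (h₂ : EW ι t s b p₂ q₂ e)
    (hB : band (sameB L T u [] (nat_lit 0)) (sameB L T (u ++ c) (q₁ ++ (z ++ p₂)) x) = true) :
    EF ι (t * ι (ev s c) * t) a (ev s (p₁ ++ u))
      (ev s (invW iv (u ++ c) ++ ((q₁ ++ (z ++ p₂)) ++ q₂))) e := by
  rw [band_eq] at hB
  obtain ⟨h1, h2⟩ := D.same hB.2
  have h3 := (D.same hB.1).1
  rw [ev_append s (invW _ _), ev_invW D.inv h2]
  simp only [ev_append, ← mul_assoc] at h1 ⊢
  have := EF.two D.cm h₁ hs h₂ (u := ev s u) (c := ev s c) (by simpa using h3) h1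
  simpa only [← mul_assoc] using this

/-- the check of a triangle -/
noncomputable def triB (L n iv : Nat) (T : List Net) (bs p₁ q₁ z p₂ q₂ c d f u p q : List Nat)
    (x y : Nat) : Bool :=
  band (band (sameB L T u [] (nat_lit 0)) (sameB L T (u ++ c) (q₁ ++ (z ++ p₂)) x))
    (band (sameB L T p ((p₁ ++ u) ++ d) y) (eqW L n bs T (p ++ q)
      ((((p₁ ++ u) ++ d) ++ f) ++ (invW iv (u ++ c) ++ ((q₁ ++ (z ++ p₂)) ++ q₂)))))

theorem tri (D : Ctx ι φ t s L n iv T bs) {a b e : G} {p₁ q₁ z p₂ q₂ c d f p q : List ℕ}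
    (u : List ℕ) (x y : ℕ) (h₁ : EW ι t s a p₁ q₁ b) (hs : SW ι s b z) (h₂ : EW ι t s b p₂ q₂ e)
    (hr : RW ι t s c d f) (hB : triB L n iv T bs p₁ q₁ z p₂ q₂ c d f u p q x y = true) :
    EW ι t s a p q e := by
  rw [triB, band_eq, band_eq (sameB L T p _ _)] at hB
  have h1 := (D.same hB.2.1).1
  have h2 := D.eq hB.2.2
  rw [ev_append s _ d] at h1
  rw [ev_append, ev_append s _ (invW _ _ ++ _), ev_append s _ f, ev_append s _ d] at h2
  exact EF.tri D.cm (D.two u x h₁ hs h₂ hB.1) hr h1 h2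

theorem cmp (D : Ctx ι φ t s L n iv T bs) {a b : G} {p q z p' q' l : List ℕ} (x : ℕ)
    (h : EW ι t s a p q b) (hs : SW ι s a z) (h' : EW ι t s a p' q' b)
    (hB : band (sameB L T p (z ++ p') x) (eqW L n bs T ((p ++ q) ++ l) ((z ++ p') ++ q')) = true) :
    SW ι s b l := by
  rw [band_eq] at hB
  have h1 := (D.same hB.1).1
  have h2 := D.eq hB.2
  simp only [ev_append] at h1 h2
  exact EF.cmp D.cm h hs h' h1 h2

end Ctx

/-- known neighbours -/
def NbL (ι : H₀ →* G) (φ : H₀ →* Equiv.Perm ℕ) (t : G) (w : ℕ → G) (a : G)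
    (l : List (ℕ × ℕ)) : Prop := ∀ e ∈ l, Nb ι φ t a e.1 (w e.2)

theorem NbL.nil {w : ℕ → G} {a : G} : NbL ι φ t w a [] := fun _ h => by simp at h

theorem Ctx.cons (D : Ctx ι φ t s L n iv T bs) {w : ℕ → G} {a : G} {p q : List ℕ} {x j : ℕ}
    {l : List (ℕ × ℕ)} (h : EW ι t s a p q (w j))
    (hB : band (ltB L p) (mem1 T p (pt x) (nat_lit 0)) = true) (h' : NbL ι φ t w a l) :
    NbL ι φ t w a ((x, j) :: l) := by
  rw [band_eq] at hB
  exact List.forall_mem_cons.2 ⟨⟨_, _, D.pt0 hB.1 hB.2, h⟩, h'⟩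

/-- known stabilising words -/
def SWL (ι : H₀ →* G) (s : ℕ → H₀) (a : G) (W : List (List ℕ)) : Prop := ∀ u ∈ W, SW ι s a u

theorem SWL.nil {a : G} : SWL ι s a [] := fun _ h => by simp at h

theorem SWL.cons {a : G} {u : List ℕ} {W : List (List ℕ)} (h : SW ι s a u) (h' : SWL ι s a W) :
    SWL ι s a (u :: W) := List.forall_mem_cons.2 ⟨h, h'⟩

theorem SWL.base (W : List (List ℕ)) : SWL ι s 1 W := fun u _ => SW.base u

/-- the points listed with the label `j` -/
def seed (j : Nat) : List (Nat × Nat) → Nat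
  | [] => 0
  | e :: l => if e.2 = j then pt e.1 ||| seed j l else seed j l

theorem mem_seed {j x : ℕ} {l : List (ℕ × ℕ)} (h : (seed j l).testBit x = true) : (x, j) ∈ l := by
  induction l with
  | nil => simp [seed] at h
  | cons e l ih =>
    rw [seed] at h
    split_ifs at h with c
    · rw [Nat.testBit_or, testBit_pt, Bool.or_eq_true, decide_eq_true_eq] at h
      rcases h with h | h
      · exact List.mem_cons.2 (.inl (Prod.ext h.symm c.symm))
      · exact List.mem_cons_of_mem _ (ih h)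
    · exact List.mem_cons_of_mem _ (ih h)

/-- the check of a row: the grown sets partition `S` -/
noncomputable def rowB (lg m : Nat) (T : List Net) (W : List (List Nat)) (l : List (Nat × Nat))
    (es : List (List Nat × Nat × Nat)) : Nat → Bool :=
  @List.rec _ (fun _ => Nat → Bool) (fun S => Nat.beq S (nat_lit 0))
    (fun e _ ih S => frc (growZ T W e.1 (seed e.2.1 l)) fun M =>
      band (Nat.blt e.2.1 m) (band (Nat.beq (Nat.land M S) M)
        (band (Nat.beq (popc lg M) e.2.2) (frc (Nat.xor S M) ih)))) es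

theorem row_aux (D : Ctx ι φ t s L n iv T bs) {lg m : ℕ} (hn : n ≤ 2 ^ lg) {w : ℕ → G} {a : G}
    {W : List (List ℕ)} (hW : SWL ι s a W) (hL : W.all (ltB L) = true) {l : List (ℕ × ℕ)}
    (hl : NbL ι φ t w a l) (es : List (List ℕ × ℕ × ℕ)) (S : ℕ) (hS : S < 2 ^ n)
    (h : rowB lg m T W l es S = true) :
    ∃ ty : ℕ → ℕ, (∀ x < n, S.testBit x = true → ty x < m ∧ Nb ι φ t a x (w (ty x))) ∧
      ∀ v : ℕ → ℤ, ∑ x ∈ Finset.range n, (if S.testBit x = true then v (ty x) else 0) =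
        ((es.map Prod.snd).map fun e => (e.2 : ℤ) * v e.1).sum := by
  induction es generalizing S with
  | nil =>
    obtain rfl : S = 0 := Nat.eq_of_beq_eq_true h
    exact ⟨fun _ => 0, by simp, by simp⟩
  | cons e es ih =>
    change (frc (growZ T W e.1 (seed e.2.1 l)) fun M =>
      band (Nat.blt e.2.1 m) (band (Nat.beq (Nat.land M S) M) (band (Nat.beq (popc lg M) e.2.2)
        (frc (Nat.xor S M) (rowB lg m T W l es))))) = true at h
    rw [frc_eq, growZ_eq] at h
    generalize hM : grow T W e.1 (seed e.2.1 l) = M at h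
    simp only [band_eq, frc_eq, Nat.blt_eq] at h
    obtain ⟨h1, h2, h3, h4⟩ := h
    have h2' : M &&& S = M := Nat.eq_of_beq_eq_true h2
    have hsub : ∀ x, M.testBit x = true → S.testBit x = true := fun x hx => by
      rw [← h2', Nat.testBit_and, Bool.and_eq_true] at hx; exact hx.2
    have hM2 : M < 2 ^ n := h2' ▸ Nat.and_lt_two_pow _ hS
    obtain ⟨ty, k1, k2⟩ := ih (S ^^^ M) (Nat.xor_lt_two_pow hS hM2) h4
    have hnb : bset n M ⊆ {x | Nb ι φ t a x (w e.2.1)} := by
      rw [← hM]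
      refine grow_sub D.rep.ok _ (fun u hu i hi => ?_) _ _ fun x hx => hl _ (mem_seed hx.2)
      obtain ⟨p, q, e1, e2⟩ := hi
      refine ⟨(ev s u)⁻¹ * p, q, ?_, e2.left (hW u hu).inv⟩
      rw [map_mul, map_inv, Equiv.Perm.mul_apply, e1,
        D.rep.ev_eq (ltB_spec (List.all_eq_true.mp hL u hu))]
      simp
    refine ⟨fun x => if M.testBit x = true then e.2.1 else ty x, fun x hx hb => ?_, fun v => ?_⟩
    · by_cases c : M.testBit x = true
      · simp only [if_pos c]; exact ⟨h1, hnb ⟨hx, c⟩⟩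
      · simp only [if_neg c]
        exact k1 x hx (by rw [Nat.testBit_xor, hb]; simpa using c)
    · rw [List.map_cons, List.map_cons, List.sum_cons, ← k2]
      have hc : (e.2.2 : ℤ) * v e.2.1 =
          ∑ x ∈ Finset.range n, if M.testBit x = true then v e.2.1 else 0 := by
        rw [← Finset.sum_filter, Finset.sum_const, nsmul_eq_mul, ← Nat.eq_of_beq_eq_true h3,
          ← ncard_bset hn hM2, ← Set.ncard_coe_finset]
        congr 3
        ext x; simp [bset]
      rw [hc, ← Finset.sum_add_distrib]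
      refine Finset.sum_congr rfl fun x _ => ?_
      rw [Nat.testBit_xor]
      by_cases c : M.testBit x = true
      · simp [c, hsub x c]
      · simp [c]

theorem Ctx.row (D : Ctx ι φ t s L n iv T bs) {lg m : ℕ} (hn : n ≤ 2 ^ lg) {w : ℕ → G} {a : G}
    {W : List (List ℕ)} (hW : SWL ι s a W) {l : List (ℕ × ℕ)} (hl : NbL ι φ t w a l)
    (es : List (List ℕ × ℕ × ℕ)) {r : List (ℕ × ℕ)}
    (h : band (W.all (ltB L) && es.map Prod.snd == r) (rowB lg m T W l es (ivl 0 n)) = true) :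
    Row ι φ t n m w a r := by
  simp only [band_eq, Bool.and_eq_true, beq_iff_eq] at h
  obtain ⟨ty, h1, h2⟩ := row_aux D hn hW h.1.1 hl es _ (Nat.lt_pow_two_of_testBit _ fun i hi => by
    rw [testBit_ivl]; simp; omega) h.2
  refine ⟨ty, fun x hx => h1 x hx (by rw [testBit_ivl]; simpa using hx), fun v => ?_⟩
  rw [← h.1.2, ← h2]
  exact Finset.sum_congr rfl fun x hx => by
    rw [testBit_ivl, if_pos (by simpa using hx)]

end Cfsg.Agent.DCE
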