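import Cfsg.Agent.Comp.OutSub

/-!
Consequences of relators: insert cyclic conjugates of relators and reduce freely.
-/

set_option autoImplicit false

namespace Cfsg.Agent.DCE
open Cfsg.Agent.Comp

variable {G : Type*} [Group G] {s : ℕ → G} {L iv : ℕ} {R : List (List ℕ)}

/-- one step of the free reduction -/
def red1 (L iv a : ℕ) : List ℕ → List ℕ
  | [] => [a]
  | b :: u => if a < L ∧ b = invL iv a then u else a :: b :: u

/-- free reduction -/
def red (L iv : ℕ) (w : List ℕ) : List ℕ := w.foldr (red1 L iv) []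

theorem ev_red (hi : ∀ y < L, invL iv y < L ∧ s (invL iv y) = (s y)⁻¹) (w : List ℕ) :
    ev s (red L iv w) = ev s w := by
  induction w with
  | nil => rfl
  | cons a w ih =>
    rw [ev_cons, ← ih, red, List.foldr_cons, ← red]
    cases red L iv w with
    | nil => simp [red1]
    | cons b u =>
      rw [red1]
      split_ifs with c
      · rw [ev_cons, c.2, (hi a c.1).2, mul_inv_cancel_left]
      · rw [ev_cons]

/-- a cyclic conjugate of a relator or of its inverse -/
def rot (iv : ℕ) (R : List (List ℕ)) (i b k : ℕ) : List ℕ :=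
  (if b = 0 then R.getD i [] else invW iv (R.getD i [])).drop k ++
    (if b = 0 then R.getD i [] else invW iv (R.getD i [])).take k

/-- the sequence of insertions -/
def run (L iv : ℕ) (R : List (List ℕ)) : List (ℕ × ℕ × ℕ × ℕ) → List ℕ → List ℕ
  | [], w => red L iv w
  | c :: cs, w => run L iv R cs
      ((red L iv w).take c.1 ++ (rot iv R c.2.1 c.2.2.1 c.2.2.2 ++ (red L iv w).drop c.1))

theorem ev_run (hs : Sat s R) (hI : invOK L iv R = true) (hR : R.all (ltB L) = true)
    (cs : List (ℕ × ℕ × ℕ × ℕ)) (w : List ℕ) : ev s (run L iv R cs w) = ev s w := by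
  have hi := (invOK_spec hI hs).1
  induction cs generalizing w with
  | nil => exact ev_red hi w
  | cons c cs ih =>
    have h1 : ev s (R.getD c.2.1 []) = 1 ∧ ∀ x ∈ R.getD c.2.1 [], x < L := by
      rcases getD_mem R c.2.1 [] with e | e
      · rw [e]; simp
      · exact ⟨hs _ e, ltB_spec (List.all_eq_true.mp hR _ e)⟩
    have h2 : ev s (rot iv R c.2.1 c.2.2.1 c.2.2.2) = 1 := by
      refine ev_rot ?_ _
      split_ifs
      · exact h1.1
      · rw [ev_invW hi h1.2, h1.1, inv_one]
    rw [run, ih, ev_append, ev_append, h2, one_mul, ← ev_append, List.take_append_drop, ev_red hi]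

/-- each new relator follows from the old ones and those before it -/
def derB (L iv : ℕ) : List (List ℕ) → List (List ℕ × List (ℕ × ℕ × ℕ × ℕ)) → Bool
  | _, [] => true
  | R, e :: D => ltB L e.1 && run L iv R e.2 e.1 == [] && derB L iv (R ++ [e.1]) D

theorem invOK_append (hI : invOK L iv R = true) (R' : List (List ℕ)) :
    invOK L iv (R ++ R') = true := by
  simp only [invOK, Bool.and_eq_true, List.all_eq_true, List.contains_append, Bool.or_eq_true]
    at hI ⊢
  exact ⟨⟨fun y hy => ⟨(hI.1.1 y hy).1, .inl (hI.1.1 y hy).2⟩, hI.1.2⟩, hI.2⟩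

theorem sat_der (hs : Sat s R) (D : List (List ℕ × List (ℕ × ℕ × ℕ × ℕ)))
    (h : (invOK L iv R && R.all (ltB L) && derB L iv R D) = true) : Sat s (D.map Prod.fst) := by
  simp only [Bool.and_eq_true] at h
  obtain ⟨⟨hI, hR⟩, h⟩ := h
  induction D generalizing R with
  | nil => exact fun _ h => by simp at h
  | cons e D ih =>
    simp only [derB, Bool.and_eq_true, beq_iff_eq] at h
    have h1 : ev s e.1 = 1 := by rw [← ev_run hs hI hR e.2, h.1.2, ev_nil]
    refine List.forall_mem_cons.2 ⟨h1, ih (hs.append fun w hw => ?_) h.2 (invOK_append hI _) ?_⟩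
    · rw [List.mem_singleton.mp hw, h1]
    · simp [hR, h.1.1]

theorem Sat.subst {tw R' : List (List ℕ)} (h : Sat s (R'.map (subst tw))) :
    Sat (fun x => ev s (tw.getD x [])) R' := fun w hw => by
  rw [← ev_subst]; exact h _ (List.mem_map_of_mem hw)

end Cfsg.Agent.DCE
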