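import Cfsg.Agent.DCE.Basic

/-!
The sizes of the double cosets of a closed enumeration.
-/

set_option autoImplicit false

namespace Cfsg.Agent.DCE
open Cfsg.Agent.Comp

variable {G H₀ : Type*} [Group G] [Group H₀] {ι : H₀ →* G} {φ : H₀ →* Equiv.Perm ℕ} {t : G}
  {n m : ℕ} {w : ℕ → G} {rows : List (List (ℕ × ℕ))}

/-- the stabiliser of the coset `H a` -/
def St (ι : H₀ →* G) (a : G) : Subgroup H₀ := (MulAction.stabilizer G (cs ι a)).comap ι

theorem mem_St {a : G} {k : H₀} : k ∈ St ι a ↔ a * ι k * a⁻¹ ∈ ι.range := by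
  change ι k • cs ι a = cs ι a ↔ _
  rw [← inv_inv (ι k), ← cs_mul, cs_eq, ← inv_mem_iff]
  simp [mul_assoc]

theorem index_St (a : G) : (St ι a).index = {y | ∃ k, y = cs ι (a * ι k)}.ncard := by
  let _ := MulAction.compHom (G ⧸ ι.range) ι
  rw [show St ι a = MulAction.stabilizer H₀ (cs ι a) from rfl, MulAction.index_stabilizer]
  congr 1
  ext y
  refine ⟨fun ⟨k, e⟩ => ⟨k⁻¹, ?_⟩, fun ⟨k, e⟩ => ⟨k⁻¹, ?_⟩⟩
  · rw [cs_mul, map_inv, inv_inv]; exact e.symm
  · rw [e, cs_mul, ← map_inv]; rfl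

theorem Closed.sizes [Fintype (G ⧸ ι.range)] (D : Closed ι φ t n m w rows) {v : List ℤ} {σ : ℤ}
    (h : Fn ι m w v σ) (hd : ∀ i < m, ∀ j < m, v.getD i 0 = v.getD j 0 → i = j) :
    ∃ N : ℕ → ℕ, (∀ i < m, ∀ g k, cs ι g = cs ι (w i * ι k) → (St ι g).index = N i) ∧
      (∀ v : List ℤ, Fn ι m w v (∑ i ∈ Finset.range m, N i * v.getD i 0)) ∧
      ∀ v σ, Fn ι m w v σ → σ = ∑ i ∈ Finset.range m, N i * v.getD i 0 := by
  classical
  obtain ⟨f, hf, -⟩ := h
  have h0 : ∀ y : G ⧸ ι.range, ∃ i < m, ∃ k, y = cs ι (w i * ι k) := fun y => by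
    induction y using QuotientGroup.induction_on with
    | H g =>
      obtain ⟨i, hi, k, e⟩ := D.cover g⁻¹
      exact ⟨i, hi, k, by rw [← e, cs, inv_inv]⟩
  choose ty h1 r h2 using h0
  have h3 : ∀ i < m, ∀ k, ty (cs ι (w i * ι k)) = i := fun i hi k =>
    hd _ (h1 _) _ hi (by rw [← hf _ (h1 _) (r _), ← h2, hf i hi])
  have h4 : ∀ v : List ℤ, ∑ y, v.getD (ty y) 0 = ∑ i ∈ Finset.range m,
      ((Finset.univ.filter fun y => ty y = i).card : ℤ) * v.getD i 0 := fun v => by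
    rw [← Finset.sum_fiberwise_of_maps_to (t := Finset.range m) (g := ty)
      fun y _ => Finset.mem_range.mpr (h1 y)]
    refine Finset.sum_congr rfl fun i _ => ?_
    rw [Finset.sum_congr rfl fun y hy => by rw [(Finset.mem_filter.mp hy).2], Finset.sum_const,
      nsmul_eq_mul]
  refine ⟨fun i => (Finset.univ.filter fun y => ty y = i).card, fun i hi g k e => ?_,
    fun v => ⟨_, fun i hi k => by rw [h3 i hi], h4 v⟩, ?_⟩
  · beta_reduce
    rw [index_St, ← Set.ncard_coe_finset]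
    congr 1
    ext y
    simp only [Set.mem_ofPred_eq, Finset.coe_filter, Finset.mem_univ, true_and]
    constructor
    · rintro ⟨l, rfl⟩
      rw [cs_mul, e, ← cs_mul, mul_assoc, ← map_mul, h3 i hi]
    · rintro rfl
      exact ⟨k⁻¹ * r y, by rw [cs_mul, e, ← cs_mul, mul_assoc, ← map_mul, mul_inv_cancel_left, ← h2]⟩
  · rintro v _ ⟨f, hf, rfl⟩
    rw [← h4]
    exact Finset.sum_congr rfl fun y _ => by rw [← hf _ (h1 y) (r y), ← h2]

end Cfsg.Agent.DCE
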