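import Cfsg.Agent.DCE.Wk
import Cfsg.Agent.DCE.Size

/-!
Double coset enumeration when `t` only normalises the image of the stabiliser of `0` into `H`.
-/

set_option autoImplicit false

namespace Cfsg.Agent.DCE
open Cfsg.Agent.Comp

variable {G H₀ : Type*} [Group G] [Group H₀]

/-- `∀ i < n, p i` -/
noncomputable def allN (p : Nat → Bool) (n : Nat) : Bool :=
  @Nat.rec (fun _ => Bool) true (fun i ih => band (p i) ih) n

theorem allN_spec {p : ℕ → Bool} {n : ℕ} (h : allN p n = true) : ∀ i < n, p i = true := by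
  induction n with
  | zero => simp
  | succ n ih =>
    change band (p n) (allN p n) = true at h
    rw [band_eq] at h
    intro i hi
    rcases Nat.lt_succ_iff_lt_or_eq.mp hi with c | rfl
    exacts [ih h.2 i c, h.1]

/-- the table holds the inverse of the letter `x` -/
def Tab (φ : H₀ →* Equiv.Perm ℕ) (s : ℕ → H₀) (TT n x : ℕ) : Prop :=
  ∀ i < n, (φ (s x))⁻¹ i = lk TT x i

theorem tab_of_rep {s : ℕ → H₀} {L n TT : ℕ} {T : List Net} {φ : H₀ →* Equiv.Perm ℕ}
    (h : Rep s L n T φ) (hB : allN (fun x => allN (fun i => frc (lk TT x i) fun j =>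
      band (Nat.blt j n) (mem1 T [x] (pt i) j)) n) L = true) : ∀ x < L, Tab φ s TT n x :=
  fun x hx i hi => by
    have := allN_spec (allN_spec hB x hx) i hi
    rw [frc_eq, band_eq, Nat.blt_eq] at this
    rw [Equiv.Perm.inv_eq_iff_eq, h.map x hx, ← ev_single (sig T), mem1_pt h.ok this.1 this.2]

noncomputable def foldT (TT : Nat) (w : List Nat) : Nat → Nat :=
  @List.rec Nat (fun _ => Nat → Nat) (fun i => i) (fun y _ ih i => frcN (lk TT y i) ih) w

theorem tab_ext {s : ℕ → H₀} {L n TT a m : ℕ} {φ : H₀ →* Equiv.Perm ℕ} (hb : ∀ g, φ g ∈ Bd n)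
    (h : ∀ x < L, Tab φ s TT n x) {tw : List (List ℕ)}
    (hB : allN (fun x => frc (Nat.add a x) fun y => band (ltB L (nth [] tw y)) (allN (fun i =>
      Nat.beq (lk TT y i) (foldT TT (nth [] tw y) i)) n)) m = true) :
    ∀ x, a ≤ x → x < a + m → Tab φ (fun x => ev s (tw.getD x [])) TT n x := fun x h1 h2 i hi => by
  have := allN_spec hB (x - a) (by omega)
  rw [frc_eq, show Nat.add a (x - a) = x from Nat.add_sub_cancel' h1, band_eq, nth_eq] at this
  rw [beq_eq.mp (allN_spec this.2 i hi)]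
  have hw := ltB_spec this.1
  beta_reduce
  generalize tw.getD x [] = w at hw
  induction w generalizing i with
  | nil => simp; rfl
  | cons y w ih =>
    rw [List.forall_mem_cons] at hw
    rw [ev_cons, map_mul, mul_inv_rev, Equiv.Perm.mul_apply,
      ih _ (Bd.lt (inv_mem (hb _)) hi) hw.2, h y hw.1 i hi]
    exact (frcN_eq _ _).symm

/-- the code of an element -/
def enc4 (φ : H₀ →* Equiv.Perm ℕ) (a b c d : ℕ) (g : H₀) : ℕ :=
  (φ g)⁻¹ a + 1024 * ((φ g)⁻¹ b + 1024 * ((φ g)⁻¹ c + 1024 * (φ g)⁻¹ d))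

theorem enc4_spec {s : ℕ → H₀} {n TT a b c d : ℕ} {φ : H₀ →* Equiv.Perm ℕ}
    (hb : ∀ g, φ g ∈ Bd n) (hinj : Function.Injective φ) (hB : IsBase φ.range [a, b, c, d])
    (hn : n ≤ 1024 ∧ a < n ∧ b < n ∧ c < n ∧ d < n) (h : ∀ x < 64, Tab φ s TT n x) :
    Function.Injective (enc4 φ a b c d) ∧
      ∀ x < 64, ∀ g, st TT x (enc4 φ a b c d g) = enc4 φ a b c d (g * s x) := by
  obtain ⟨hn, ha, hb', hc, hd⟩ := hn
  have k : ∀ g, (φ g)⁻¹ a < n ∧ (φ g)⁻¹ b < n ∧ (φ g)⁻¹ c < n ∧ (φ g)⁻¹ d < n := fun g =>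
    have := inv_mem (hb g)
    ⟨Bd.lt this ha, Bd.lt this hb', Bd.lt this hc, Bd.lt this hd⟩
  refine ⟨fun g g' e => ?_, fun x hx g => ?_⟩
  · have h1 := k g
    have h2 := k g'
    unfold enc4 at e
    have h3 : φ g' * (φ g)⁻¹ = 1 := hB _ ⟨g' * g⁻¹, by simp⟩ fun y hy => by
      rw [Equiv.Perm.mul_apply, ← Equiv.Perm.eq_inv_iff_eq]
      simp only [List.mem_cons, List.not_mem_nil, or_false] at hy
      rcases hy with rfl | rfl | rfl | rfl <;> omega
    exact (hinj (mul_inv_eq_one.mp h3)).symm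
  · obtain ⟨h1, h2, h3, h4⟩ := k g
    simp only [enc4, map_mul, mul_inv_rev, Equiv.Perm.mul_apply, h x hx _ h1, h x hx _ h2,
      h x hx _ h3, h x hx _ h4]
    generalize (φ g)⁻¹ a = p at h1
    generalize (φ g)⁻¹ b = q at h2
    generalize (φ g)⁻¹ c = r at h3
    generalize (φ g)⁻¹ d = t at h4
    change lk TT x (_ % 1024) + 1024 * (lk TT x (_ / 1024 % 1024) + 1024 *
      (lk TT x (_ / 1048576 % 1024) + 1024 * lk TT x (_ / 1073741824))) = _
    congr 2 <;> [omega; skip]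
    congr 2 <;> [omega; skip]
    congr 2 <;> [omega; skip]
    congr 1; omega

theorem inv_of_enc {s : ℕ → H₀} {enc : H₀ → ℕ} {TT z : ℕ} (hinj : Function.Injective enc)
    (h : ∀ x < 64, ∀ g, st TT x (enc g) = enc (g * s x)) (hz : z = enc 1)
    (hB : allN (fun x => Nat.beq (st TT (Nat.xor x 1) (st TT x z)) z) 64 = true) :
    ∀ x < 64, s (x ^^^ 1) = (s x)⁻¹ := fun x hx => by
  have := beq_eq.mp (allN_spec hB x hx)
  rw [hz, h x hx, show Nat.xor x 1 = x ^^^ 1 from rfl,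
    h _ (Nat.xor_lt_two_pow (n := 6) hx (by norm_num)), one_mul] at this
  exact eq_inv_of_mul_eq_one_right (hinj this)

/-- `t` conjugates the stabiliser of `0` into `H` -/
def Tw0 (ι : H₀ →* G) (φ : H₀ →* Equiv.Perm ℕ) (t : G) : Prop :=
  ∀ g, φ g 0 = 0 → ∃ g', ι g * t = t * ι g'

/-- a closed enumeration -/
structure TClosed (ι : H₀ →* G) (φ : H₀ →* Equiv.Perm ℕ) (t : G) (n m : ℕ) (w : ℕ → G)
    (rows : List (List (ℕ × ℕ))) : Prop where
  tw : Tw0 ι φ t
  bd : ∀ h, φ h ∈ Bd n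
  pos : 0 < n ∧ 0 < m
  tr : ∀ x < n, ∃ h, φ h 0 = x
  w0 : w 0 = 1
  row : ∀ i < m, Row ι φ t n m w (w i) (rows.getD i [])
  gen : ∀ K : Subgroup G, ι.range ≤ K → t ∈ K → K = ⊤
  inv : ∃ c d, t⁻¹ = ι c * t * ι d

variable {ι : H₀ →* G} {φ : H₀ →* Equiv.Perm ℕ} {t : G} {n m : ℕ} {w : ℕ → G}
  {rows : List (List (ℕ × ℕ))}

theorem Nb.stepT (hc : Tw0 ι φ t) {a b : G} {p : H₀} (h : Nb ι φ t a (φ p 0) b) :
    ∃ k, cs ι (a * ι p * t) = cs ι (b * ι k) := by
  obtain ⟨p', q', h1, h2⟩ := h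
  obtain ⟨g, hg⟩ := hc _ (fix_of_eq h1)
  refine ⟨q'⁻¹ * g, cs_eq.mpr ?_⟩
  unfold EF at h2
  convert h2 using 1
  rw [show ι p = ι p' * ι (p'⁻¹ * p) by rw [← map_mul, mul_inv_cancel_left], mul_assoc a,
    mul_assoc (ι p'), hg, map_mul ι q'⁻¹, map_inv ι q']; group

theorem TClosed.cover (D : TClosed ι φ t n m w rows) (g : G) :
    ∃ i < m, ∃ h, cs ι g = cs ι (w i * ι h) := by
  let X : Set (G ⧸ ι.range) := {y | ∃ i < m, ∃ h, y = cs ι (w i * ι h)}
  let M : Submonoid G :=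
    { carrier := {g | ∀ y ∈ X, g⁻¹ • y ∈ X}
      one_mem' := fun y hy => by simpa using hy
      mul_mem' := fun {a b} ha hb y hy => by
        rw [mul_inv_rev, mul_smul]; exact hb _ (ha _ hy) }
  have hι : ∀ k, ι k ∈ M := by
    rintro k _ ⟨i, hi, h, rfl⟩
    exact ⟨i, hi, h * k, by rw [← cs_mul, map_mul, mul_assoc]⟩
  have ht : t ∈ M := by
    rintro _ ⟨i, hi, h, rfl⟩
    obtain ⟨ty, h1, -⟩ := D.row i hi
    obtain ⟨h2, h3⟩ := h1 _ (Bd.lt (D.bd h) D.pos.1)
    obtain ⟨k, hk⟩ := h3.stepT D.tw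
    exact ⟨_, h2, k, by rw [← cs_mul, hk]⟩
  let K : Subgroup G :=
    { carrier := {g | g ∈ M ∧ g⁻¹ ∈ M}
      one_mem' := ⟨M.one_mem, by simp⟩
      mul_mem' := fun {a b} ha hb =>
        ⟨M.mul_mem ha.1 hb.1, by rw [mul_inv_rev]; exact M.mul_mem hb.2 ha.2⟩
      inv_mem' := fun {a} ha => ⟨ha.2, by simpa using ha.1⟩ }
  have hK : K = ⊤ := by
    refine D.gen K ?_ ⟨ht, ?_⟩
    · rintro _ ⟨k, rfl⟩
      exact ⟨hι k, by rw [← map_inv]; exact hι _⟩
    · obtain ⟨c, d, e⟩ := D.inv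
      rw [e]; exact M.mul_mem (M.mul_mem (hι c) ht) (hι d)
  have hg : g ∈ K := hK ▸ Subgroup.mem_top g
  have := hg.1 (cs ι (w 0 * ι 1)) ⟨0, D.pos.2, 1, rfl⟩
  rw [← cs_mul, D.w0, map_one, one_mul, one_mul] at this
  exact this

theorem TClosed.finite [Finite H₀] (D : TClosed ι φ t n m w rows) : Finite (G ⧸ ι.range) := by
  refine Finite.of_surjective (fun e : Fin m × H₀ => cs ι (w e.1 * ι e.2)) fun y => ?_
  induction y using QuotientGroup.induction_on with
  | H g =>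
    obtain ⟨i, hi, h, e⟩ := D.cover g⁻¹
    exact ⟨(⟨i, hi⟩, h), e.symm.trans (by rw [cs, inv_inv])⟩

theorem TClosed.coatom (D : TClosed ι φ t n m w rows) (ht : t ∉ ι.range)
    (h : ∀ K : Subgroup G, ι.range ≤ K → ∀ i < m, i ≠ 0 → w i ∈ K → t ∈ K) :
    IsCoatom ι.range := by
  refine ⟨fun e => ht (e ▸ Subgroup.mem_top t), fun K hK => ?_⟩
  obtain ⟨g, hg, hn⟩ := SetLike.exists_of_lt hK
  obtain ⟨i, hi, k, e⟩ := D.cover g
  rw [cs_eq] at e
  have hk : ι k ∈ ι.range := ⟨k, rfl⟩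
  refine D.gen K hK.le (h K hK.le i hi ?_ ?_)
  · rintro rfl
    rw [D.w0, one_mul] at e
    exact hn (by simpa using mul_mem e hk)
  · have := mul_mem (mul_mem (inv_mem (hK.le e)) hg) (inv_mem (hK.le hk))
    convert this using 1; group

theorem TClosed.step [Fintype (G ⧸ ι.range)] (D : TClosed ι φ t n m w rows)
    (hne : ∀ i < m, i ≠ 0 → w i ∉ ι.range) {v v' : List ℤ} {σ σ' : ℤ} (q : ℤ) (h : Fn ι m w v σ)
    (hB : stepB n m rows v σ q v' σ' = true) : Fn ι m w v' σ' := by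
  classical
  obtain ⟨f, hf, rfl⟩ := h
  simp only [stepB, Bool.and_eq_true, List.all_eq_true, List.mem_range, beq_iff_eq] at hB
  choose! r hr using D.tr
  refine ⟨fun y => ∑ x ∈ Finset.range n, f ((ι (r x) * t * (ι (r x))⁻¹)⁻¹ • y) +
    if y = cs ι 1 then q else 0, fun i hi h => ?_, ?_⟩
  · obtain ⟨ty, h1, h2⟩ := D.row i hi
    rw [hB.1 i hi, ← h2 fun j => v.getD j 0, ← sum_perm (D.bd h) fun x => v.getD (ty x) 0]
    beta_reduce
    congr 1
    · refine Finset.sum_congr rfl fun x hx => ?_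
      have hx' := Finset.mem_range.mp hx
      have e : φ (h * r x) 0 = φ h x := by rw [map_mul, Equiv.Perm.mul_apply, hr x hx']
      obtain ⟨h3, h4⟩ := h1 _ (Bd.lt (D.bd h) hx')
      obtain ⟨k, hk⟩ := Nb.stepT (p := h * r x) (b := w (ty (φ h x))) D.tw (by rw [e]; exact h4)
      rw [← hf _ h3 (k * (r x)⁻¹), map_mul, ← mul_assoc, cs_mul _ (ι (r x)⁻¹), ← hk, ← cs_mul,
        ← cs_mul, map_mul, map_inv]
      congr 2; group
    · by_cases h0 : i = 0
      · subst h0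
        rw [if_pos rfl, if_pos]
        rw [cs_eq, D.w0]; simp
      · rw [if_neg h0, if_neg]
        rw [cs_eq]
        intro e
        refine hne i hi h0 ?_
        have := mul_mem e (inv_mem (⟨h, rfl⟩ : ι h ∈ ι.range))
        simpa using this
  · rw [Finset.sum_add_distrib, Finset.sum_comm, hB.2]
    congr 1
    · refine (Finset.sum_congr rfl fun x _ =>
        Equiv.sum_comp (MulAction.toPerm (ι (r x) * t * (ι (r x))⁻¹)⁻¹) f).trans ?_
      simp
    · simp

theorem TClosed.index [Fintype (G ⧸ ι.range)] (D : TClosed ι φ t n m w rows) {v : List ℤ}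
    {σ M : ℤ} {N : ℕ} (h : Fn ι m w v σ)
    (hB : ((List.range m).all (fun i => v.getD i 0 == M) && σ == M * N && M != 0) = true) :
    ι.range.index = N := by
  obtain ⟨f, hf, e⟩ := h
  simp only [Bool.and_eq_true, List.all_eq_true, List.mem_range, beq_iff_eq, bne_iff_ne] at hB
  have h1 : ∀ y, f y = M := fun y => by
    induction y using QuotientGroup.induction_on with
    | H g =>
      obtain ⟨i, hi, h, e⟩ := D.cover g⁻¹
      rw [← hB.1.1 i hi, ← hf i hi h, ← e, cs, inv_inv]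
  rw [Finset.sum_congr rfl fun y _ => h1 y, hB.1.2, Finset.sum_const, Finset.card_univ,
    nsmul_eq_mul, mul_comm] at e
  rw [Subgroup.index, Nat.card_eq_fintype_card]
  exact_mod_cast mul_left_cancel₀ hB.2 e

variable {s : ℕ → H₀} {enc : H₀ → ℕ} {P : Par} {L N : ℕ} {T : List Net}

/-- the listed facts give stabilising words of the node `i` -/
noncomputable def swB (P : Par) (N i : Nat) (l : List (Nat × List Nat)) : Bool :=
  lall (fun e => frc (rc P.FT e.1) fun r => band (band (Nat.blt e.1 N) (Nat.beq (fe r) (nat_lit 0)))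
    (band (band (Nat.beq (fi r) i) (band (Nat.beq (fj r) i) (Nat.beq (fv r) (nat_lit 1))))
      (wd 64 30 (fp r) == e.2))) l

theorem swl_of (hF : Facts ι t s P N) {i : ℕ} {l : List (ℕ × List ℕ)} (h : swB P N i l = true) :
    SWL ι s (wOf ι t s P.PL i) (l.map Prod.snd) := fun u hu => by
  obtain ⟨e, he, rfl⟩ := List.mem_map.mp hu
  have := (lall_eq _ _).mp h e he
  simp only [frc_eq, band_eq, beq_eq, Nat.blt_eq, beq_iff_eq] at this
  obtain ⟨⟨h1, h2⟩, ⟨h3, h4, h5⟩, h6⟩ := this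
  have k := hF _ h1
  rw [Fact, h2, h3, h4, h5, pow_zero, mul_one, show W s (nat_lit 1) = 1 from rfl, map_one,
    mul_one, W, h6] at k
  exact ⟨_, by rw [k, mul_inv_cancel_right]⟩

/-- the listed facts, read forwards or backwards, give neighbours of the node `i` -/
noncomputable def nbB (P : Par) (N L i : Nat) (T : List Net) (l : List (Nat × Nat × Nat)) : Bool :=
  lall (fun e => frc (Nat.div e.1 (nat_lit 2)) fun m => frc (rc P.FT m) fun r =>
    band (band (Nat.blt m N) (Nat.beq (fe r) (nat_lit 1))) (@Bool.rec (fun _ => Bool)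
      (band (band (Nat.beq (fj r) i) (Nat.beq (fi r) e.2.2))
        (frcL (wd 64 30 (fv r) ++ wd 64 30 P.cU) fun u =>
          band (ltB L u) (mem1 T u (pt e.2.1) (nat_lit 0))))
      (band (band (Nat.beq (fi r) i) (Nat.beq (fj r) e.2.2)) (frcL (wd 64 30 (fp r)) fun u =>
          band (ltB L u) (mem1 T u (pt e.2.1) (nat_lit 0))))
      (Nat.beq (Nat.mod e.1 (nat_lit 2)) (nat_lit 0)))) l

theorem nbl_of (E : Env ι t s enc P) (hF : Facts ι t s P N) (hR : Rep s L n T φ) (hn : 0 < n)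
    {i : ℕ} {l : List (ℕ × ℕ × ℕ)} (h : nbB P N L i T l = true) :
    NbL ι φ t (wOf ι t s P.PL) (wOf ι t s P.PL i) (l.map Prod.snd) := fun u hu => by
  obtain ⟨e, he, rfl⟩ := List.mem_map.mp hu
  have := (lall_eq _ _).mp h e he
  simp only [frc_eq, band_eq, beq_eq, Nat.blt_eq] at this
  obtain ⟨⟨h1, h2⟩, h3⟩ := this
  have k := hF _ h1
  generalize rc P.FT _ = r at k h2 h3
  rw [Fact, h2, show t ^ (nat_lit 1) = t from pow_one t] at k
  rcases brec_true h3 with ⟨-, h3⟩ | ⟨-, h3⟩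
  · simp only [frcL_eq, band_eq, beq_eq] at h3
    obtain ⟨⟨rfl, h4⟩, h5, h6⟩ := h3
    refine ⟨W s (fv r) * W s P.cU, (W s (fp r))⁻¹, ?_, (W s (fL r))⁻¹, ?_⟩
    · rw [W, W, ← ev_append, hR.ev_eq (ltB_spec h5)]; exact mem1_pt hR.ok hn h6
    · rw [← h4, map_mul, mul_assoc _ _ t, mul_assoc _ _ t, ← E.cU, map_inv, map_inv]
      calc _ = (ι (W s (fL r)))⁻¹ * (wOf ι t s P.PL (fi r) * ι (W s (fp r)) * t) * t⁻¹ *
            (ι (W s (fp r)))⁻¹ * (wOf ι t s P.PL (fi r))⁻¹ := by group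
        _ = _ := by rw [k]; group
  · simp only [frcL_eq, band_eq, beq_eq] at h3
    obtain ⟨⟨rfl, h4⟩, h5, h6⟩ := h3
    refine ⟨W s (fp r), (W s (fv r))⁻¹, ?_, W s (fL r), ?_⟩
    · rw [W, hR.ev_eq (ltB_spec h5)]; exact mem1_pt hR.ok hn h6
    · rw [← h4, k, map_inv]; group

theorem NbL.append {a : G} {l l' : List (ℕ × ℕ × ℕ)} (h : NbL ι φ t w a (l.map Prod.snd))
    (h' : NbL ι φ t w a (l'.map Prod.snd)) : NbL ι φ t w a ((l ++ l').map Prod.snd) := by
  rw [List.map_append]; exact List.forall_mem_append.mpr ⟨h, h'⟩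

/-- the points listed with the label `j` -/
noncomputable def seedZ (j : Nat) (l : List (Nat × Nat × Nat)) : Nat → Nat :=
  @List.rec _ (fun _ => Nat → Nat) (fun S => S) (fun e _ ih S =>
    @Bool.rec (fun _ => Nat) (frcN (nat_lit 0) fun _ => ih S) (frcN (Nat.lor (pt e.2.1) S) ih)
      (Nat.beq e.2.2 j)) l

theorem mem_seedZ {j x : ℕ} {l : List (ℕ × ℕ × ℕ)} {S : ℕ} (h : (seedZ j l S).testBit x = true) :
    S.testBit x = true ∨ (x, j) ∈ l.map Prod.snd := by
  induction l generalizing S with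
  | nil => exact .inl h
  | cons e l ih =>
    change (@Bool.rec (fun _ => Nat) (frcN (nat_lit 0) fun _ => seedZ j l S)
      (frcN (pt e.2.1 ||| S) (seedZ j l)) (Nat.beq e.2.2 j)).testBit x = true at h
    rw [frcN_eq, frcN_eq] at h
    rw [List.map_cons, List.mem_cons]
    cases c : Nat.beq e.2.2 j
    · rw [c] at h
      exact (ih h).imp_right .inr
    · rw [c] at h
      rcases ih h with h | h
      · rw [Nat.testBit_or, testBit_pt, Bool.or_eq_true, decide_eq_true_eq] at h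
        exact h.symm.imp_right fun h => .inl (Prod.ext h.symm (beq_eq.mp c).symm)
      · exact .inr (.inr h)

/-- the grown set lies in the neighbours with the label `j` -/
theorem grown (hR : Rep s L n T φ) {a : G} {V : List (List ℕ)} (hW : SWL ι s a V)
    {l : List (ℕ × ℕ × ℕ)} (hl : NbL ι φ t w a (l.map Prod.snd)) {j M : ℕ} (sc : List ℕ)
    (h : band (V.all (ltB L)) (Nat.beq (growZ T V sc (seedZ j l (nat_lit 0))) M) = true) :
    ∀ x < n, M.testBit x = true → Nb ι φ t a x (w j) := by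
  rw [band_eq, beq_eq, growZ_eq] at h
  have : bset n M ⊆ {x | Nb ι φ t a x (w j)} := by
    rw [← h.2]
    refine grow_sub hR.ok _ (fun u hu i hi => ?_) _ _ fun x hx =>
      hl _ ((mem_seedZ hx.2).resolve_left (by simp))
    obtain ⟨p, q, e1, e2⟩ := hi
    refine ⟨(ev s u)⁻¹ * p, q, ?_, e2.left (hW u hu).inv⟩
    rw [map_mul, map_inv, Equiv.Perm.mul_apply, e1,
      hR.ev_eq (ltB_spec (List.all_eq_true.mp h.1 u hu))]
    simp
  exact fun x hx c => this ⟨hx, c⟩

/-- the sets partition `S` -/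
noncomputable def partB (lg m : Nat) (es : List (Nat × Nat × Nat)) : Nat → Bool :=
  @List.rec _ (fun _ => Nat → Bool) (fun S => Nat.beq S (nat_lit 0))
    (fun e _ ih S => band (Nat.blt e.2.1 m) (band (Nat.beq (Nat.land e.1 S) e.1)
      (band (Nat.beq (popc lg e.1) e.2.2) (frc (Nat.xor S e.1) ih)))) es

theorem part_aux {lg : ℕ} (hn : n ≤ 2 ^ lg) {a : G} (es : List (ℕ × ℕ × ℕ))
    (he : ∀ e ∈ es, ∀ x < n, e.1.testBit x = true → Nb ι φ t a x (w e.2.1)) (S : ℕ)
    (hS : S < 2 ^ n) (h : partB lg m es S = true) :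
    ∃ ty : ℕ → ℕ, (∀ x < n, S.testBit x = true → ty x < m ∧ Nb ι φ t a x (w (ty x))) ∧
      ∀ v : ℕ → ℤ, ∑ x ∈ Finset.range n, (if S.testBit x = true then v (ty x) else 0) =
        ((es.map Prod.snd).map fun e => (e.2 : ℤ) * v e.1).sum := by
  induction es generalizing S with
  | nil =>
    obtain rfl : S = 0 := Nat.eq_of_beq_eq_true h
    exact ⟨fun _ => 0, by simp, by simp⟩
  | cons e es ih =>
    change band (Nat.blt e.2.1 m) (band (Nat.beq (Nat.land e.1 S) e.1)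
      (band (Nat.beq (popc lg e.1) e.2.2) (frc (Nat.xor S e.1) (partB lg m es)))) = true at h
    rw [List.forall_mem_cons] at he
    have hnb := he.1
    generalize e.1 = M at h hnb
    simp only [band_eq, frc_eq, Nat.blt_eq] at h
    obtain ⟨h1, h2, h3, h4⟩ := h
    have h2' : M &&& S = M := Nat.eq_of_beq_eq_true h2
    have hsub : ∀ x, M.testBit x = true → S.testBit x = true := fun x hx => by
      rw [← h2', Nat.testBit_and, Bool.and_eq_true] at hx; exact hx.2
    have hM2 : M < 2 ^ n := h2' ▸ Nat.and_lt_two_pow _ hS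
    obtain ⟨ty, k1, k2⟩ := ih he.2 (S ^^^ M) (Nat.xor_lt_two_pow hS hM2) h4
    refine ⟨fun x => if M.testBit x = true then e.2.1 else ty x, fun x hx hb => ?_, fun v => ?_⟩
    · by_cases c : M.testBit x = true
      · simp only [if_pos c]; exact ⟨h1, hnb x hx c⟩
      · simp only [if_neg c]
        exact k1 x hx (by rw [Nat.testBit_xor, hb]; simpa using c)
    · rw [List.map_cons, List.map_cons, List.sum_cons, ← k2]
      have hc : (e.2.2 : ℤ) * v e.2.1 =
          ∑ x ∈ Finset.range n, if M.testBit x = true then v e.2.1 else 0 := by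
        rw [← Finset.sum_filter, Finset.sum_const, nsmul_eq_mul, ← Nat.eq_of_beq_eq_true h3,
          ← ncard_bset hn hM2, ← Set.ncard_coe_finset]
        congr 3
        ext x; simp [bset]
      rw [hc, ← Finset.sum_add_distrib]
      refine Finset.sum_congr rfl fun x _ => ?_
      rw [Nat.testBit_xor]
      by_cases c : M.testBit x = true
      · simp [c, hsub x c]
      · simp [c]

theorem row_of {lg : ℕ} (hn : n ≤ 2 ^ lg) {a : G} (es : List (ℕ × ℕ × ℕ))
    (he : ∀ e ∈ es, ∀ x < n, e.1.testBit x = true → Nb ι φ t a x (w e.2.1)) {r : List (ℕ × ℕ)}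
    (h : band (es.map Prod.snd == r) (partB lg m es (ivl 0 n)) = true) :
    Row ι φ t n m w a r := by
  simp only [band_eq, beq_iff_eq] at h
  obtain ⟨ty, h1, h2⟩ := part_aux hn es he _ (Nat.lt_pow_two_of_testBit _ fun i hi => by
    rw [testBit_ivl]; simp; omega) h.2
  refine ⟨ty, fun x hx => h1 x hx (by rw [testBit_ivl]; simpa using hx), fun v => ?_⟩
  rw [← h.1, ← h2]
  exact Finset.sum_congr rfl fun x hx => by
    rw [testBit_ivl, if_pos (by simpa using hx)]

end Cfsg.Agent.DCE
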