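import Cfsg.Agent.DCE.Word

/-!
Double coset enumeration: a checker for facts `w i * p * u ^ e = l * w j * v`, where the elements
of `H₀` are words coded as numbers and are compared through an injective code.
-/

set_option autoImplicit false

namespace Cfsg.Agent.DCE
open Cfsg.Agent.Comp

variable {G H₀ : Type*} [Group G] [Group H₀]

/-- the digits below the leading one -/
def wd (b : ℕ) : ℕ → ℕ → List ℕ
  | 0, _ => []
  | f + 1, n => if n ≤ 1 then [] else n % b :: wd b f (n / b)

/-- left fold over the digits -/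
noncomputable def fl (b : Nat) (g : Nat → Nat → Nat) (f : Nat) : Nat → Nat → Nat :=
  @Nat.rec (fun _ => Nat → Nat → Nat) (fun _ z => z)
    (fun _ ih n z => @Bool.rec (fun _ => Nat) (frcN (Nat.div n b) fun m => frcN (Nat.mod n b) fun d =>
      frcN (g d z) (ih m)) z (Nat.ble n (nat_lit 1))) f

/-- right fold over the digits -/
noncomputable def fr (b : Nat) (g : Nat → Nat → Nat) (f : Nat) : Nat → Nat → Nat :=
  @Nat.rec (fun _ => Nat → Nat → Nat) (fun _ z => z)
    (fun _ ih n z => @Bool.rec (fun _ => Nat) (frcN (Nat.div n b) fun m => frcN (Nat.mod n b) fun d =>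
      frcN (ih m z) (g d)) z (Nat.ble n (nat_lit 1))) f

theorem brec_ble {α : Type} (a c : α) (n : ℕ) :
    @Bool.rec (fun _ => α) a c (Nat.ble n (nat_lit 1)) = if n ≤ 1 then c else a := by
  split_ifs with h
  · rw [Nat.ble_eq_true_of_le h]
  · rw [Bool.eq_false_iff.mpr fun e => h (Nat.le_of_ble_eq_true e)]

theorem fl_enc {enc : H₀ → ℕ} {b : ℕ} (hb : 0 < b) {g : ℕ → ℕ → ℕ} {s : ℕ → H₀}
    (h : ∀ d < b, ∀ x, g d (enc x) = enc (x * s d)) (f n : ℕ) (x : H₀) :
    fl b g f n (enc x) = enc (x * ev s (wd b f n)) := by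
  induction f generalizing n x with
  | zero => simp [wd]; rfl
  | succ f ih =>
    change @Bool.rec (fun _ => Nat) (frcN (n / b) fun m => frcN (n % b) fun d =>
      frcN (g d (enc x)) (fl b g f m)) (enc x) (Nat.ble n (nat_lit 1)) = _
    rw [brec_ble, wd]
    split_ifs
    · simp
    · rw [frcN_eq, frcN_eq, frcN_eq, h _ (Nat.mod_lt _ hb), ih, ev_cons, mul_assoc]

theorem fr_enc {enc : H₀ → ℕ} {b : ℕ} (hb : 0 < b) {g : ℕ → ℕ → ℕ} {s : ℕ → H₀}
    (h : ∀ d < b, ∀ x, g d (enc x) = enc (x * (s d)⁻¹)) (f n : ℕ) (x : H₀) :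
    fr b g f n (enc x) = enc (x * (ev s (wd b f n))⁻¹) := by
  induction f generalizing n x with
  | zero => simp [wd]; rfl
  | succ f ih =>
    change @Bool.rec (fun _ => Nat) (frcN (n / b) fun m => frcN (n % b) fun d =>
      frcN (fr b g f m (enc x)) (g d)) (enc x) (Nat.ble n (nat_lit 1)) = _
    rw [brec_ble, wd]
    split_ifs
    · simp
    · rw [frcN_eq, frcN_eq, frcN_eq, ih, h _ (Nat.mod_lt _ hb), ev_cons, mul_inv_rev, mul_assoc]

/-- the entry `i` of the table of the letter `x` -/
def lk (TT x i : Nat) : Nat :=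
  Nat.land (Nat.shiftRight (Nat.mod (Nat.shiftRight TT (Nat.mul x (nat_lit 10240)))
    (Nat.shiftLeft (nat_lit 1) (nat_lit 10240))) (Nat.mul i (nat_lit 10))) (nat_lit 1023)

/-- the letter `x` on four packed points -/
def st (TT x z : Nat) : Nat :=
  Nat.add (lk TT x (Nat.mod z (nat_lit 1024))) (Nat.mul (nat_lit 1024)
    (Nat.add (lk TT x (Nat.mod (Nat.div z (nat_lit 1024)) (nat_lit 1024))) (Nat.mul (nat_lit 1024)
      (Nat.add (lk TT x (Nat.mod (Nat.div z (nat_lit 1048576)) (nat_lit 1024)))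
        (Nat.mul (nat_lit 1024) (lk TT x (Nat.div z (nat_lit 1073741824))))))))

/-- the element of a code -/
def W (s : ℕ → H₀) (n : ℕ) : H₀ := ev s (wd 64 30 n)

/-- a letter map -/
def kl (c d : Nat) : Nat := Nat.mod (Nat.shiftRight c (Nat.mul d (nat_lit 6))) (nat_lit 64)

/-- the element of a code in the letters of the edge group -/
def KW (s : ℕ → H₀) (c n : ℕ) : H₀ := ev (fun d => s (kl c d)) (wd 16 30 n)

/-- the element of a signed code -/
def GW (s : ℕ → H₀) (c : ℕ) : H₀ := if c % 2 = 0 then W s (c / 2) else (W s (c / 2))⁻¹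

noncomputable def mulW (TT n z : Nat) : Nat := fl (nat_lit 64) (st TT) (nat_lit 30) n z

noncomputable def mulI (TT n z : Nat) : Nat :=
  fr (nat_lit 64) (fun d z => frcN (Nat.xor d (nat_lit 1)) fun e => st TT e z) (nat_lit 30) n z

noncomputable def mulK (TT c n z : Nat) : Nat :=
  fl (nat_lit 16) (fun d z => frcN (kl c d) fun e => st TT e z) (nat_lit 30) n z

noncomputable def mulG (TT c z : Nat) : Nat :=
  @Bool.rec (fun _ => Nat) (frcN (Nat.div c (nat_lit 2)) fun n => mulI TT n z)
    (frcN (Nat.div c (nat_lit 2)) fun n => mulW TT n z) (Nat.beq (Nat.mod c (nat_lit 2)) (nat_lit 0))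

theorem W_one (s : ℕ → H₀) : W s 1 = 1 := rfl

/-- the record number `n` -/
def rc (FT n : Nat) : Nat :=
  Nat.mod (Nat.shiftRight FT (Nat.mul n (nat_lit 256))) (Nat.shiftLeft (nat_lit 1) (nat_lit 256))

def fi (r : Nat) : Nat := Nat.mod r (nat_lit 64)
def fj (r : Nat) : Nat := Nat.mod (Nat.div r (nat_lit 64)) (nat_lit 64)
def fe (r : Nat) : Nat := Nat.mod (Nat.div r (nat_lit 4096)) (nat_lit 16)
def fp (r : Nat) : Nat :=
  Nat.mod (Nat.shiftRight r (nat_lit 16)) (nat_lit 1208925819614629174706176)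
def fL (r : Nat) : Nat :=
  Nat.mod (Nat.shiftRight r (nat_lit 96)) (nat_lit 1208925819614629174706176)
def fv (r : Nat) : Nat := Nat.shiftRight r (nat_lit 176)

/-- the representatives -/
noncomputable def wOf (ι : H₀ →* G) (u : G) (s : ℕ → H₀) (PL : List (List ℕ)) (j : ℕ) : G :=
  ((nth [] PL j).map fun p => ι (W s p) * u).prod

/-- the meaning of a record -/
def Fact (ι : H₀ →* G) (u : G) (s : ℕ → H₀) (w : ℕ → G) (r : ℕ) : Prop :=
  w (fi r) * ι (W s (fp r)) * u ^ fe r = ι (W s (fL r)) * w (fj r) * ι (W s (fv r))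

/-- the product `u g₁ u g₂ ⋯` -/
def uprod (ι : H₀ →* G) (u : G) (s : ℕ → H₀) (gs : List ℕ) : G :=
  (gs.map fun g => u * ι (GW s g)).prod

/-- `u = g₀ u g₁ u g₂ ⋯` -/
def Rel (ι : H₀ →* G) (u : G) (s : ℕ → H₀) (gs : List ℕ) : Prop :=
  ∀ g l, gs = g :: l → l ≠ [] ∧ u = ι (GW s g) * uprod ι u s l

/-- the parameters of the checker -/
structure Par where
  TT : Nat
  FT : Nat
  ca : Nat
  cb : Nat
  cU : Nat
  z0 : Nat
  RL : List (List Nat)
  PL : List (List Nat)

/-- what the checker assumes -/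
structure Env (ι : H₀ →* G) (u : G) (s : ℕ → H₀) (enc : H₀ → ℕ) (P : Par) : Prop where
  inj : Function.Injective enc
  step : ∀ x < 64, ∀ g, st P.TT x (enc g) = enc (g * s x)
  inv : ∀ x < 64, s (x ^^^ 1) = (s x)⁻¹
  z0 : P.z0 = enc 1
  kk : ∀ d < 16, ι (s (kl P.ca d)) * u = u * ι (s (kl P.cb d))
  cU : u⁻¹ = ι (W s P.cU) * u
  rl : ∀ gs ∈ P.RL, Rel ι u s gs
  w0 : nth [] P.PL 0 = []
  w1 : nth [] P.PL 1 = [1]

/-- multiply by known stabilising elements of the node `j` -/
noncomputable def gensB (P : Par) (n j f : Nat) : Nat → Nat → Nat → (Nat → Nat → Bool) → Bool :=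
  @Nat.rec (fun _ => Nat → Nat → Nat → (Nat → Nat → Bool) → Bool) (fun _ a l k => k a l)
    (fun _ ih c a l k => @Bool.rec (fun _ => Bool)
      (frc (Nat.div c (nat_lit 4096)) fun c' => frc (Nat.mod c (nat_lit 4096)) fun m =>
        frc (rc P.FT m) fun r => band (band (Nat.blt m n) (Nat.beq (fe r) (nat_lit 0)))
          (band (band (Nat.beq (fi r) j) (band (Nat.beq (fj r) j) (Nat.beq (fv r) (nat_lit 1))))
            (frc (mulW P.TT (fp r) a) fun a' => frc (mulW P.TT (fL r) l) fun l' => ih c' a' l' k)))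
      (k a l) (Nat.ble c (nat_lit 1))) f

/-- one multiplication by `u`; the code holds the tag, the fact, the word in the edge group and
the stabilising facts -/
noncomputable def zB (P : Par) (n c zl j zL zV : Nat) (k : Nat → Nat → Nat → Bool) : Bool :=
  frc (Nat.mod c (nat_lit 4)) fun tag =>
  @Bool.rec (fun _ => Bool)
    (frc (Nat.mod (Nat.div c (nat_lit 4)) (nat_lit 4096)) fun m => frc (rc P.FT m) fun r =>
      frc (Nat.mod (Nat.shiftRight c (nat_lit 14)) (nat_lit 281474976710656)) fun kc =>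
      band (band (Nat.blt m n) (Nat.beq (fe r) (nat_lit 1)))
      (gensB P n j (nat_lit 30) (Nat.shiftRight c (nat_lit 62)) P.z0 zL fun a l =>
        @Bool.rec (fun _ => Bool)
          (band (Nat.beq (fj r) j) (frc (mulW P.TT (fv r) a) fun a1 => frc (mulW P.TT P.cU a1) fun a2 =>
            band (Nat.beq (mulK P.TT P.ca kc a2) zV) (frc (mulI P.TT (fL r) l) fun l' =>
              @Bool.rec (fun _ => Bool)
                (band (band (Nat.beq (fi r) (nat_lit 0)) (Nat.beq zl P.z0))
                  (frc (mulW P.TT (fp r) l') fun v => frc (mulK P.TT P.cb kc v) fun v' =>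
                    k (nat_lit 0) P.z0 v'))
                (frc (mulW P.TT (fp r) zl) fun v => frc (mulK P.TT P.cb kc v) fun v' =>
                  frc (fi r) fun i => k i l' v')
                (Nat.beq tag (nat_lit 1)))))
          (band (Nat.beq (fi r) j) (frc (mulW P.TT (fp r) a) fun a1 =>
            band (Nat.beq (mulK P.TT P.ca kc a1) zV) (frc (mulW P.TT (fL r) l) fun l' =>
              frc (mulW P.TT (fv r) zl) fun v => frc (mulK P.TT P.cb kc v) fun v' =>
                frc (fj r) fun i => k i l' v')))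
          (Nat.beq tag (nat_lit 0))))
    (band (band (Nat.beq j (nat_lit 0)) (Nat.beq zL P.z0)) (k (nat_lit 1) zV zl))
    (Nat.beq tag (nat_lit 3))

/-- `a` for the empty list, else `b` -/
noncomputable def sel {α : Type*} (l : List Nat) (a b : α) : α :=
  @List.rec Nat (fun _ => α) a (fun _ _ _ => b) l

/-- the walk along a relator -/
noncomputable def walkB (P : Par) (n zl : Nat) (k : List Nat → Nat → Nat → Nat → Bool)
    (gs : List Nat) : List Nat → Nat → Nat → Nat → Bool :=
  @List.rec Nat (fun _ => List Nat → Nat → Nat → Nat → Bool) k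
    (fun g gs ih d j zL zV => @List.rec Nat (fun _ => Bool) false
      (fun c d' _ => zB P n c (sel gs zl P.z0) j zL zV fun j' l v =>
        frc (mulG P.TT g v) fun v' => ih d' j' l v') d) gs

/-- the relator with the code `q` -/
noncomputable def relB (P : Par) (n q : Nat) (k : List Nat → Bool) : Bool :=
  @Bool.rec (fun _ => Bool)
    (frc (Nat.div q (nat_lit 2)) fun m => frc (rc P.FT m) fun r =>
      band (band (Nat.blt m n) (Nat.beq (fe r) (nat_lit 1)))
        (band (band (Nat.beq (fi r) (nat_lit 1)) (Nat.beq (fj r) (nat_lit 1)))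
          (k [Nat.succ (Nat.mul (nat_lit 2) (fL r)), Nat.mul (nat_lit 2) (fp r),
            Nat.succ (Nat.mul (nat_lit 2) (fv r))])))
    (k (nth [] P.RL (Nat.div q (nat_lit 2)))) (Nat.beq (Nat.mod q (nat_lit 2)) (nat_lit 0))

/-- the value of `w i * h * u` -/
noncomputable def runB (P : Par) (n i zh zl : Nat) (d : List Nat)
    (k : List Nat → Nat → Nat → Nat → Bool) : Bool :=
  @List.rec Nat (fun _ => Bool) false (fun q d' _ => relB P n q fun gs =>
    @List.rec Nat (fun _ => Bool) false (fun g l _ => frc (mulG P.TT g zh) fun z =>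
      walkB P n zl k l d' i P.z0 z) gs) d

/-- the deduction of the record number `n` -/
noncomputable def dedB (P : Par) (n : Nat) (d : List Nat) : Bool :=
  frc (rc P.FT n) fun r => @List.rec Nat (fun _ => Bool) false (fun a d' _ =>
    frc (Nat.div a (nat_lit 4)) fun b => frc (Nat.mod a (nat_lit 4)) fun kind =>
    @Bool.rec (fun _ => Bool)
      (@Bool.rec (fun _ => Bool)
        (@Bool.rec (fun _ => Bool)
          (band (band (Nat.beq (fe r) (nat_lit 0)) (Nat.beq (fv r) (nat_lit 1)))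
            (band (band (Nat.beq (fi r) (nat_lit 1)) (Nat.beq (fj r) (nat_lit 1)))
              (band (Nat.beq (mulW P.TT (fp r) P.z0) (mulK P.TT P.cb b P.z0))
                (Nat.beq (mulW P.TT (fL r) P.z0) (mulK P.TT P.ca b P.z0)))))
          (band (band (Nat.beq (fe r) (nat_lit 0)) (Nat.beq (fv r) (nat_lit 1)))
            (frc (Nat.mod b (nat_lit 64)) fun i => frc (Nat.div b (nat_lit 64)) fun hc =>
              frc (mulW P.TT hc P.z0) fun zh => frc (mulW P.TT (fp r) P.z0) fun zs =>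
              runB P n i zh P.z0 d' fun d'' ja la va => runB P n i zh zs d'' fun _ jb lb vb =>
                band (band (Nat.beq ja (fi r)) (Nat.beq jb (fj r))) (band (Nat.beq ja jb)
                  (band (Nat.beq va vb) (Nat.beq (mulW P.TT (fL r) la) lb)))))
          (Nat.beq kind (nat_lit 2)))
        (band (Nat.beq (fe r) (nat_lit 1)) (frc (mulW P.TT (fp r) P.z0) fun a1 =>
          frc (mulK P.TT P.ca b a1) fun zh => frc (fi r) fun i => runB P n i zh P.z0 d' fun _ j l v =>
            band (Nat.beq j (fj r)) (band (Nat.beq l (mulW P.TT (fL r) P.z0))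
              (frc (mulW P.TT (fv r) P.z0) fun v1 => Nat.beq v (mulK P.TT P.cb b v1)))))
        (Nat.beq kind (nat_lit 1)))
      (band (band (Nat.beq (fe r) (nat_lit 1)) (Nat.beq (fv r) (nat_lit 1)))
        (band (Nat.beq (fL r) (nat_lit 1)) (nth [] P.PL (fj r) == nth [] P.PL (fi r) ++ [fp r])))
      (Nat.beq kind (nat_lit 0))) d

/-- consecutive deductions -/
noncomputable def chunkB (P : Par) (ds : List (List Nat)) : Nat → Bool :=
  @List.rec (List Nat) (fun _ => Nat → Bool) (fun _ => true)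
    (fun d _ ih n => band (dedB P n d) (frc (Nat.succ n) ih)) ds

/-- the records below `n` hold -/
def Facts (ι : H₀ →* G) (u : G) (s : ℕ → H₀) (P : Par) (n : ℕ) : Prop :=
  ∀ m < n, Fact ι u s (wOf ι u s P.PL) (rc P.FT m)

theorem brec_true {a c b : Bool} (h : @Bool.rec (fun _ => Bool) a c b = true) :
    (b = false ∧ a = true) ∨ (b = true ∧ c = true) := by cases b <;> simp_all

theorem beq_eq {a b : ℕ} : Nat.beq a b = true ↔ a = b := Nat.beq_eq ▸ Iff.rfl

variable {ι : H₀ →* G} {u : G} {s : ℕ → H₀} {enc : H₀ → ℕ} {P : Par}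

namespace Env

theorem mulW_eq (E : Env ι u s enc P) (n : ℕ) (x : H₀) :
    mulW P.TT n (enc x) = enc (x * W s n) := fl_enc (by norm_num) E.step _ _ _

theorem mulI_eq (E : Env ι u s enc P) (n : ℕ) (x : H₀) :
    mulI P.TT n (enc x) = enc (x * (W s n)⁻¹) :=
  fr_enc (by norm_num) (fun d hd x => by
    rw [frcN_eq, ← E.inv d hd]
    exact E.step _ (Nat.xor_lt_two_pow (n := 6) hd (by norm_num)) _) _ _ _

theorem mulK_eq (E : Env ι u s enc P) (c n : ℕ) (x : H₀) :
    mulK P.TT c n (enc x) = enc (x * KW s c n) :=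
  fl_enc (s := fun d => s (kl c d)) (by norm_num) (fun d _ x => by
    rw [frcN_eq]; exact E.step _ (Nat.mod_lt _ (by norm_num)) _) _ _ _

theorem mulG_eq (E : Env ι u s enc P) (c : ℕ) (x : H₀) :
    mulG P.TT c (enc x) = enc (x * GW s c) := by
  unfold mulG GW
  rw [frcN_eq, frcN_eq, E.mulW_eq, E.mulI_eq]
  split_ifs with h
  · rw [show Nat.beq (Nat.mod c (nat_lit 2)) (nat_lit 0) = true from beq_eq.mpr h]; rfl
  · rw [show Nat.beq (Nat.mod c (nat_lit 2)) (nat_lit 0) = false from
      Bool.eq_false_iff.mpr fun e => h (beq_eq.mp e)]; rfl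

theorem kw (E : Env ι u s enc P) (n : ℕ) : ι (KW s P.ca n) * u = u * ι (KW s P.cb n) := by
  unfold KW
  have : ∀ d ∈ wd 16 30 n, d < 16 := by
    generalize 30 = f
    induction f generalizing n with
    | zero => simp [wd]
    | succ f ih =>
      rw [wd]; split_ifs
      · simp
      · exact List.forall_mem_cons.2 ⟨Nat.mod_lt _ (by norm_num), ih _⟩
  generalize wd 16 30 n = l at this
  induction l with
  | nil => simp
  | cons d l ih =>
    rw [List.forall_mem_cons] at this
    rw [ev_cons, ev_cons, map_mul, map_mul, mul_assoc, ih this.2, ← mul_assoc, E.kk d this.1,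
      mul_assoc]

theorem w_zero (E : Env ι u s enc P) : wOf ι u s P.PL 0 = 1 := by simp [wOf, E.w0]

theorem w_one (E : Env ι u s enc P) : wOf ι u s P.PL 1 = u := by simp [wOf, E.w1, W_one]

theorem gens (E : Env ι u s enc P) {n j : ℕ} (hF : Facts ι u s P n) (f c : ℕ) (a l : H₀)
    {k : ℕ → ℕ → Bool} (h : gensB P n j f c (enc a) (enc l) k = true) :
    ∃ x y, wOf ι u s P.PL j * ι x = ι y * wOf ι u s P.PL j ∧ k (enc (a * x)) (enc (l * y)) = true := by
  induction f generalizing c a l with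
  | zero => exact ⟨1, 1, by simp, by rw [mul_one, mul_one]; exact h⟩
  | succ f ih =>
    change @Bool.rec (fun _ => Bool)
      (frc (Nat.div c (nat_lit 4096)) fun c' => frc (Nat.mod c (nat_lit 4096)) fun m =>
        frc (rc P.FT m) fun r => band (band (Nat.blt m n) (Nat.beq (fe r) (nat_lit 0)))
          (band (band (Nat.beq (fi r) j) (band (Nat.beq (fj r) j) (Nat.beq (fv r) (nat_lit 1))))
            (frc (mulW P.TT (fp r) (enc a)) fun a' => frc (mulW P.TT (fL r) (enc l)) fun l' =>
              gensB P n j f c' a' l' k)))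
      (k (enc a) (enc l)) (Nat.ble c (nat_lit 1)) = true at h
    rcases brec_true h with ⟨-, h⟩ | ⟨-, h⟩
    · simp only [frc_eq, band_eq, beq_eq, Nat.blt_eq, E.mulW_eq] at h
      obtain ⟨⟨h1, h2⟩, ⟨h3, h4, h5⟩, h6⟩ := h
      obtain ⟨x, y, e1, e2⟩ := ih _ (a * _) (l * _) h6
      have := hF _ h1
      rw [Fact, h2, h3, h4, h5, pow_zero, mul_one, show W s (nat_lit 1) = 1 from rfl, map_one,
        mul_one] at this
      refine ⟨_ * x, _ * y, ?_, by simpa only [mul_assoc] using e2⟩
      rw [map_mul, ← mul_assoc, this, mul_assoc, e1, map_mul, mul_assoc]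
    · exact ⟨1, 1, by simp, by simpa using h⟩

theorem z (E : Env ι u s enc P) {n c j : ℕ} (hF : Facts ι u s P n) {x L V : H₀}
    {k : ℕ → ℕ → ℕ → Bool} (h : zB P n c (enc x) j (enc L) (enc V) k = true) :
    ∃ j' L' V', ι L * wOf ι u s P.PL j * ι V * u = ι L' * wOf ι u s P.PL j' * ι V' ∧
      k j' (enc L') (enc (x * V')) = true := by
  rw [zB, frc_eq, E.z0] at h
  rcases brec_true h with ⟨-, h⟩ | ⟨-, h⟩
  · simp only [frc_eq, band_eq, beq_eq, Nat.blt_eq] at h
    obtain ⟨⟨h1, h2⟩, h⟩ := h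
    obtain ⟨a, y, e1, h⟩ := E.gens hF _ _ _ _ h
    have hf := hF _ h1
    generalize rc P.FT _ = r at h hf h2
    generalize Nat.mod (Nat.shiftRight c (nat_lit 14)) (nat_lit 281474976710656) = kc at h
    rw [Fact, h2, show u ^ (nat_lit 1) = u from pow_one u] at hf
    have hk := E.kw kc
    rcases brec_true h with ⟨-, h⟩ | ⟨-, h⟩
    · simp only [band_eq, beq_eq, E.mulW_eq, E.mulK_eq, E.mulI_eq] at h
      obtain ⟨h3, h4, h⟩ := h
      have e : ι L * wOf ι u s P.PL j * ι V * u = ι (L * y * (W s (fL r))⁻¹) *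
          wOf ι u s P.PL (fi r) * ι (W s (fp r) * KW s P.cb kc) := by
        rw [← E.inj h4, one_mul, map_mul, map_mul, map_mul, map_mul, map_mul, map_mul, map_inv]
        calc _ = ι L * (wOf ι u s P.PL j * ι a) * ι (W s (fv r)) * ι (W s P.cU) *
              (ι (KW s P.ca kc) * u) := by simp only [mul_assoc]
          _ = ι L * ι y * (ι (W s (fL r)))⁻¹ * (ι (W s (fL r)) * wOf ι u s P.PL (fj r) *
              ι (W s (fv r))) * (ι (W s P.cU) * u) * ι (KW s P.cb kc) := by
            rw [e1, hk, h3]; group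
          _ = _ := by rw [← hf, ← E.cU]; group
      rcases brec_true h with ⟨-, h⟩ | ⟨-, h⟩
      · simp only [band_eq, beq_eq] at h
        obtain ⟨⟨h5, h6⟩, h⟩ := h
        refine ⟨0, 1, _, ?_, by rw [E.inj h6, one_mul]; exact h⟩
        rw [e, h5, show wOf ι u s P.PL (nat_lit 0) = 1 from E.w_zero]
        simp only [map_mul, map_one, mul_one, one_mul, mul_assoc]
      · exact ⟨_, _, _, e, by rw [← mul_assoc]; exact h⟩
    · simp only [band_eq, beq_eq, E.mulW_eq, E.mulK_eq] at h
      obtain ⟨h3, h4, h⟩ := h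
      refine ⟨_, _, W s (fv r) * KW s P.cb kc, ?_, by rw [← mul_assoc]; exact h⟩
      rw [← E.inj h4, one_mul, map_mul, map_mul, map_mul, map_mul, map_mul]
      calc _ = ι L * (wOf ι u s P.PL j * ι a) * ι (W s (fp r)) * (ι (KW s P.ca kc) * u) := by
            simp only [mul_assoc]
        _ = ι L * ι y * (wOf ι u s P.PL (fi r) * ι (W s (fp r)) * u) * ι (KW s P.cb kc) := by
            rw [e1, hk, h3]; group
        _ = _ := by rw [hf]; group
  · simp only [band_eq, beq_eq] at h
    obtain ⟨⟨h1, h2⟩, h⟩ := h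
    refine ⟨1, V, 1, ?_, by rw [mul_one]; exact h⟩
    rw [h1, E.inj h2, show wOf ι u s P.PL (nat_lit 0) = 1 from E.w_zero, E.w_one]
    simp

theorem walk (E : Env ι u s enc P) {n : ℕ} (hF : Facts ι u s P n) {x : H₀}
    {k : List ℕ → ℕ → ℕ → ℕ → Bool} (gs d : List ℕ) (j : ℕ) (L V : H₀)
    (h : walkB P n (enc x) k gs d j (enc L) (enc (sel gs x 1 * V)) = true) :
    ∃ d' j' L' V', ι L * wOf ι u s P.PL j * ι V * uprod ι u s gs =
      ι L' * wOf ι u s P.PL j' * ι V' ∧ k d' j' (enc L') (enc (x * V')) = true := by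
  induction gs generalizing d j L V with
  | nil => exact ⟨d, j, L, V, by simp [uprod], h⟩
  | cons g gs ih =>
    cases d with
    | nil => exact absurd h Bool.false_ne_true
    | cons c d =>
      change zB P n c (sel gs (enc x) P.z0) j (enc L) (enc (1 * V)) (fun j' l v =>
        frc (mulG P.TT g v) fun v' => walkB P n (enc x) k gs d j' l v') = true at h
      rw [show sel gs (enc x) P.z0 = enc (sel gs x 1) by cases gs; exacts [rfl, E.z0], one_mul] at h
      obtain ⟨j', L', V', e, h⟩ := E.z hF h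
      rw [frc_eq, E.mulG_eq, mul_assoc] at h
      obtain ⟨d', j'', L'', V'', e', h⟩ := ih _ _ _ _ h
      refine ⟨d', j'', L'', V'', ?_, h⟩
      rw [← e', map_mul, ← mul_assoc, ← e]
      simp only [uprod, List.map_cons, List.prod_cons, mul_assoc]

theorem rel (E : Env ι u s enc P) {n q : ℕ} (hF : Facts ι u s P n) {k : List ℕ → Bool}
    (h : relB P n q k = true) : ∃ gs, Rel ι u s gs ∧ k gs = true := by
  rcases brec_true h with ⟨-, h⟩ | ⟨-, h⟩
  · simp only [frc_eq, band_eq, beq_eq, Nat.blt_eq] at h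
    obtain ⟨⟨h1, h2⟩, ⟨h3, h4⟩, h⟩ := h
    refine ⟨_, ?_, h⟩
    have hf := hF _ h1
    generalize rc P.FT _ = r at hf h2 h3 h4
    rw [Fact, h2, h3, h4, show u ^ (nat_lit 1) = u from pow_one u,
      show wOf ι u s P.PL (nat_lit 1) = u from E.w_one] at hf
    rintro _ _ ⟨rfl, rfl⟩
    have k1 : ∀ a, GW s (Nat.succ (Nat.mul (nat_lit 2) a)) = (W s a)⁻¹ := fun a => by
      change GW s (2 * a + 1) = _
      rw [GW, if_neg (by omega), show (2 * a + 1) / 2 = a by omega]
    have k2 : ∀ a, GW s (Nat.mul (nat_lit 2) a) = W s a := fun a => by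
      change GW s (2 * a) = _
      rw [GW, if_pos (by omega), show 2 * a / 2 = a by omega]
    refine ⟨by simp, ?_⟩
    simp only [uprod, List.map_cons, List.map_nil, List.prod_cons, List.prod_nil, k1, k2, map_inv]
    calc u = (ι (W s (fL r)))⁻¹ * (ι (W s (fL r)) * u * ι (W s (fv r))) * (ι (W s (fv r)))⁻¹ := by
          group
      _ = _ := by rw [← hf]; group
  · refine ⟨_, ?_, h⟩
    rw [nth_eq]
    rcases getD_mem P.RL (Nat.div q (nat_lit 2)) [] with e | e
    · rw [e]; exact fun _ _ e => absurd e (by simp)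
    · exact E.rl _ e

theorem run (E : Env ι u s enc P) {n i : ℕ} (hF : Facts ι u s P n) {x y : H₀} {d : List ℕ}
    {k : List ℕ → ℕ → ℕ → ℕ → Bool} (h : runB P n i (enc y) (enc x) d k = true) :
    ∃ d' j L V, wOf ι u s P.PL i * ι y * u = ι L * wOf ι u s P.PL j * ι V ∧
      k d' j (enc L) (enc (x * V)) = true := by
  cases d with
  | nil => exact absurd h Bool.false_ne_true
  | cons q d =>
    obtain ⟨gs, hr, h⟩ := E.rel hF h
    cases gs with
    | nil => exact absurd h Bool.false_ne_true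
    | cons g l =>
      obtain ⟨h1, h2⟩ := hr g l rfl
      change frc (mulG P.TT g (enc y)) (fun z => walkB P n (enc x) k l d i P.z0 z) = true at h
      rw [frc_eq, E.mulG_eq, E.z0, show y * GW s g = sel l x 1 * (y * GW s g) by
        cases l; exacts [absurd rfl h1, (one_mul _).symm]] at h
      obtain ⟨d', j, L, V, e, h⟩ := E.walk hF _ _ _ _ _ h
      refine ⟨d', j, L, V, ?_, h⟩
      rw [← e, map_one, one_mul, map_mul, mul_assoc _ _ (uprod ι u s l), mul_assoc (ι y), ← h2,
        mul_assoc]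

theorem ded (E : Env ι u s enc P) {n : ℕ} (hF : Facts ι u s P n) {d : List ℕ}
    (h : dedB P n d = true) : Fact ι u s (wOf ι u s P.PL) (rc P.FT n) := by
  rw [dedB, frc_eq, E.z0] at h
  generalize rc P.FT n = r at h
  cases d with
  | nil => exact absurd h Bool.false_ne_true
  | cons a d =>
    simp only [frc_eq] at h
    generalize Nat.div a (nat_lit 4) = b at h
    have w1 : W s (nat_lit 1) = 1 := rfl
    unfold Fact
    rcases brec_true h with ⟨-, h⟩ | ⟨-, h⟩
    · rcases brec_true h with ⟨-, h⟩ | ⟨-, h⟩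
      · rcases brec_true h with ⟨-, h⟩ | ⟨-, h⟩
        · simp only [band_eq, beq_eq, E.mulW_eq, E.mulK_eq, one_mul] at h
          obtain ⟨⟨h1, h2⟩, ⟨h3, h4⟩, h5, h6⟩ := h
          rw [h1, h2, h3, h4, E.inj h5, E.inj h6, w1,
            show wOf ι u s P.PL (nat_lit 1) = u from E.w_one, E.kw]
          simp
        · simp only [band_eq, beq_eq, E.mulW_eq, one_mul] at h
          obtain ⟨⟨h1, h2⟩, h⟩ := h
          obtain ⟨d', ja, La, Va, ea, h⟩ := E.run hF h
          obtain ⟨-, jb, Lb, Vb, eb, h⟩ := E.run hF h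
          simp only [band_eq, beq_eq, E.mulW_eq, one_mul] at h
          obtain ⟨⟨rfl, rfl⟩, h5, h6, h7⟩ := h
          rw [ea, E.inj h6, ← E.inj h7, map_mul, map_mul, ← mul_assoc, mul_left_inj, mul_assoc,
            mul_assoc, mul_right_inj] at eb
          rw [h1, h2, w1, eb]
          simp
      · simp only [band_eq, beq_eq, E.mulW_eq, E.mulK_eq, one_mul] at h
        obtain ⟨h1, h⟩ := h
        obtain ⟨-, j, L, V, e, h⟩ := E.run hF h
        simp only [band_eq, beq_eq, one_mul] at h
        obtain ⟨rfl, h3, h4⟩ := h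
        rw [E.inj h3, E.inj h4, map_mul, map_mul, mul_assoc, mul_assoc, E.kw, ← mul_assoc,
          ← mul_assoc, ← mul_assoc, mul_left_inj] at e
        rw [h1, ← e]
        exact congrArg _ (pow_one u)
    · simp only [band_eq, beq_eq, beq_iff_eq] at h
      obtain ⟨⟨h1, h2⟩, h3, h4⟩ := h
      rw [h1, h2, h3, w1, wOf, wOf, h4]
      simp [mul_assoc]

theorem chunk (E : Env ι u s enc P) (ds : List (List ℕ)) {n m : ℕ} (hF : Facts ι u s P n)
    (hm : m = n + ds.length) (h : chunkB P ds n = true) : Facts ι u s P m := by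
  induction ds generalizing n with
  | nil => exact hm ▸ hF
  | cons d ds ih =>
    change band (dedB P n d) (frc (n + 1) (chunkB P ds)) = true at h
    rw [band_eq, frc_eq] at h
    refine ih (fun k hk => ?_) (by rw [hm, List.length_cons]; omega) h.2
    rcases Nat.lt_succ_iff_lt_or_eq.mp hk with c | rfl
    exacts [hF k c, E.ded hF h.1]

end Env

theorem Facts.zero : Facts ι u s P 0 := fun _ h => absurd h (Nat.not_lt_zero _)

end Cfsg.Agent.DCE
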